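import Groth.Agent.H46.NodeUFD.Min
import Mathlib.LinearAlgebra.Matrix.SchurComplement
import Mathlib.RingTheory.MvPowerSeries.NoZeroDivisors

/-!
The cokernel of a matrix factorisation of `uv - Δ` becomes free when `u` is inverted.
-/

set_option autoImplicit false
set_option linter.unusedSectionVars false

universe u

open IsLocalRing MvPowerSeries Matrix

namespace Groth.Agent.H46.NodeUFD

variable {R : Type u} [CommRing R] [IsLocalRing R]

local notation "S" => MvPowerSeries (Fin 2) R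

variable {B : Type u} [CommRing B] (g : MvPowerSeries (Fin 2) R →+* B)
variable {n m : Type*} [Fintype n] [DecidableEq n] [Fintype m] [DecidableEq m]

/-- The cokernel of the image of `M` is free. -/
def CokFree (M : Matrix n n S) : Prop :=
  ∃ (k : ℕ) (π : (n → B) →ₗ[B] (Fin k → B)), Function.Surjective π ∧
    LinearMap.ker π = LinearMap.range (M.map g).mulVecLin

lemma CokFree.mk' {ι : Type*} [Fintype ι] {M : Matrix n n S} (π : (n → B) →ₗ[B] (ι → B))
    (hπ : Function.Surjective π) (h : LinearMap.ker π = LinearMap.range (M.map g).mulVecLin) :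
    CokFree g M := by
  refine ⟨Fintype.card ι, (LinearEquiv.funCongrLeft B B (Fintype.equivFin ι).symm).toLinearMap ∘ₗ π,
    (LinearEquiv.funCongrLeft B B (Fintype.equivFin ι).symm).surjective.comp hπ, ?_⟩
  rw [LinearEquiv.ker_comp, h]

lemma CokFree.of_units {M : Matrix n n S} (P Q : (Matrix n n S)ˣ)
    (h : CokFree g ((P : Matrix n n S) * M * (Q : Matrix n n S))) : CokFree g M := by
  obtain ⟨k, π, hπ, hk⟩ := h
  let P' : (Matrix n n B)ˣ := Units.map g.mapMatrix.toMonoidHom P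
  let Q' : (Matrix n n B)ˣ := Units.map g.mapMatrix.toMonoidHom Q
  refine ⟨k, π ∘ₗ (P' : Matrix n n B).mulVecLin, hπ.comp fun y => ⟨(↑P'⁻¹ : Matrix n n B) *ᵥ y, by
    simp [Matrix.mulVec_mulVec, ← Units.val_mul]⟩, ?_⟩
  ext v
  rw [LinearMap.mem_ker, LinearMap.comp_apply, ← LinearMap.mem_ker, hk]
  have e : ((P : Matrix n n S) * M * (Q : Matrix n n S)).map g = (P' : Matrix n n B) * M.map g * (Q' : Matrix n n B) := by
    rw [Matrix.map_mul, Matrix.map_mul]; rfl
  constructor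
  · rintro ⟨w, hw⟩
    refine ⟨(Q' : Matrix n n B) *ᵥ w, ?_⟩
    have := congrArg ((↑P'⁻¹ : Matrix n n B) *ᵥ ·) hw
    simpa [e, Matrix.mulVec_mulVec, ← mul_assoc] using this
  · rintro ⟨w, rfl⟩
    refine ⟨(↑Q'⁻¹ : Matrix n n B) *ᵥ w, ?_⟩
    rw [Matrix.mulVecLin_apply, Matrix.mulVecLin_apply, Matrix.mulVecLin_apply, Matrix.mulVec_mulVec,
      Matrix.mulVec_mulVec, e, mul_assoc, mul_assoc, Units.mul_inv, mul_one]

lemma CokFree.of_submatrix {M : Matrix n n S} (σ τ : m ≃ n) (h : CokFree g (M.submatrix σ τ)) :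
    CokFree g M := by
  obtain ⟨k, π, hπ, hk⟩ := h
  refine ⟨k, π ∘ₗ (LinearEquiv.funCongrLeft B B σ).toLinearMap,
    hπ.comp (LinearEquiv.surjective _), ?_⟩
  have e : ∀ w, (M.submatrix σ τ).map g *ᵥ w = (M.map g *ᵥ (w ∘ τ.symm)) ∘ σ := fun w => by
    rw [show (M.submatrix σ τ).map g = (M.map g).submatrix σ τ from rfl,
      Matrix.submatrix_mulVec_equiv]
  ext v
  rw [LinearMap.mem_ker, LinearMap.comp_apply, ← LinearMap.mem_ker, hk]
  constructor
  · rintro ⟨w, hw⟩
    refine ⟨w ∘ τ.symm, funext fun i => ?_⟩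
    have := congrFun hw (σ.symm i)
    rw [Matrix.mulVecLin_apply, e] at this
    simpa [LinearMap.funLeft] using this
  · rintro ⟨w, rfl⟩
    refine ⟨w ∘ τ, funext fun i => ?_⟩
    rw [Matrix.mulVecLin_apply, e]
    simp [LinearMap.funLeft, Function.comp_def]

lemma map_smul_one (e : S) :
    (e • (1 : Matrix Unit Unit S)).map g = g e • (1 : Matrix Unit Unit B) := by
  ext a b
  simp [show a = () from rfl, show b = () from rfl]

lemma CokFree.block_unit {e : S} (he : IsUnit (g e)) {M : Matrix n n S} (h : CokFree g M) :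
    CokFree g (fromBlocks (e • (1 : Matrix Unit Unit S)) 0 0 M) := by
  obtain ⟨k, π, hπ, hk⟩ := h
  refine ⟨k, π ∘ₗ LinearMap.funLeft B B Sum.inr,
    hπ.comp (LinearMap.funLeft_surjective_of_injective _ _ _ Sum.inr_injective), ?_⟩
  ext v
  rw [LinearMap.mem_ker, LinearMap.comp_apply, ← LinearMap.mem_ker, hk]
  obtain ⟨w, hw⟩ := he
  constructor
  · rintro ⟨y, hy⟩
    refine ⟨Sum.elim (fun _ => (↑w⁻¹ : B) * v (.inl ())) y, ?_⟩
    funext i
    rcases i with i | i
    · simp [Matrix.fromBlocks_map, Matrix.fromBlocks_mulVec, map_smul_one, Matrix.smul_mulVec, ← hw]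
    · have := congrFun hy i
      simpa [Matrix.fromBlocks_map, Matrix.fromBlocks_mulVec, LinearMap.funLeft] using this
  · rintro ⟨y, rfl⟩
    refine ⟨y ∘ Sum.inr, funext fun i => ?_⟩
    simp [Matrix.fromBlocks_map, Matrix.fromBlocks_mulVec, LinearMap.funLeft]

lemma CokFree.block_zero {e : S} (he : g e = 0) {M : Matrix n n S} (h : CokFree g M) :
    CokFree g (fromBlocks (e • (1 : Matrix Unit Unit S)) 0 0 M) := by
  obtain ⟨k, π, hπ, hk⟩ := h
  let π' : (Unit ⊕ n → B) →ₗ[B] (Unit ⊕ Fin k → B) :=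
    { toFun := fun v => Sum.elim (fun _ => v (.inl ())) (π (v ∘ Sum.inr))
      map_add' := fun v w => funext fun i => by
        rcases i with i | i
        · simp
        · simp only [Sum.elim_inr, Pi.add_apply]
          rw [← Pi.add_apply (π _) (π _), ← map_add]; rfl
      map_smul' := fun c v => funext fun i => by
        rcases i with i | i
        · simp
        · simp only [Sum.elim_inr, Pi.smul_apply, RingHom.id_apply]
          rw [← Pi.smul_apply c (π _), ← map_smul]; rfl }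
  refine CokFree.mk' g π' (fun y => ?_) ?_
  · obtain ⟨x, hx⟩ := hπ (y ∘ Sum.inr)
    refine ⟨Sum.elim (y ∘ Sum.inl) x, funext fun i => ?_⟩
    rcases i with i | i
    · simp [π']
    · simpa [π'] using congrFun hx i
  ext v
  rw [LinearMap.mem_ker]
  constructor
  · intro hv
    have h0 : v (.inl ()) = 0 := congrFun hv (.inl ())
    have h1 : π (v ∘ Sum.inr) = 0 := funext fun i => congrFun hv (.inr i)
    rw [← LinearMap.mem_ker, hk] at h1
    obtain ⟨y, hy⟩ := h1
    refine ⟨Sum.elim (fun _ => 0) y, funext fun i => ?_⟩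
    rcases i with i | i
    · simp [Matrix.fromBlocks_map, Matrix.fromBlocks_mulVec, map_smul_one, Matrix.smul_mulVec, he, h0]
    · simpa [Matrix.fromBlocks_map, Matrix.fromBlocks_mulVec] using congrFun hy i
  · rintro ⟨y, rfl⟩
    have h1 : π ((M.map g) *ᵥ (y ∘ Sum.inr)) = 0 := by
      rw [← LinearMap.mem_ker, hk]; exact ⟨_, rfl⟩
    funext i
    rcases i with i | i
    · simp [π', Matrix.fromBlocks_map, Matrix.fromBlocks_mulVec, map_smul_one, Matrix.smul_mulVec, he]
    · simpa [π', Matrix.fromBlocks_map, Matrix.fromBlocks_mulVec, Function.comp_def] using congrFun h1 i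

/-- Clearing a unit corner. -/
lemma exists_schur (M : Matrix (Unit ⊕ n) (Unit ⊕ n) S) (h : IsUnit (M (.inl ()) (.inl ()))) :
    ∃ (P Q : (Matrix (Unit ⊕ n) (Unit ⊕ n) S)ˣ) (e : S) (M' : Matrix n n S), IsUnit e ∧
      (P : Matrix (Unit ⊕ n) (Unit ⊕ n) S) * M * Q = fromBlocks (e • (1 : Matrix Unit Unit S)) 0 0 M' := by
  obtain ⟨e, he⟩ := h
  obtain ⟨A, B', C', D, hM⟩ : ∃ A B' C' D, M = fromBlocks A B' C' D :=
    ⟨_, _, _, _, (fromBlocks_toBlocks M).symm⟩
  have hA : A = (e : S) • 1 := Matrix.ext fun a b => by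
    rw [show a = () from rfl, show b = () from rfl, Matrix.smul_apply, Matrix.one_apply_eq, smul_eq_mul,
      mul_one, he, hM, fromBlocks_apply₁₁]
  have hu : ∀ (X : Matrix n Unit S), IsUnit (fromBlocks 1 0 X 1 : Matrix (Unit ⊕ n) (Unit ⊕ n) S) :=
    fun X => by
      rw [Matrix.isUnit_iff_isUnit_det, det_fromBlocks_zero₁₂, det_one, det_one, one_mul]
      exact isUnit_one
  have hu' : ∀ (X : Matrix Unit n S), IsUnit (fromBlocks 1 X 0 1 : Matrix (Unit ⊕ n) (Unit ⊕ n) S) :=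
    fun X => by
      rw [Matrix.isUnit_iff_isUnit_det, det_fromBlocks_zero₂₁, det_one, det_one, one_mul]
      exact isUnit_one
  refine ⟨(hu (-((↑e⁻¹ : S) • C'))).unit, (hu' (-((↑e⁻¹ : S) • B'))).unit, e,
    D - (↑e⁻¹ : S) • (C' * B'), e.isUnit, ?_⟩
  rw [IsUnit.unit_spec, IsUnit.unit_spec, hM, hA, fromBlocks_multiply, fromBlocks_multiply]
  simp [smul_smul, sub_eq_neg_add, Matrix.smul_mul, Matrix.mul_smul]

lemma normal_cokFree (Δ : R) (w : B) (hw : g (X 0) * w = 1) (hg : g (node Δ) = 0)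
    {p q : Type*} [Fintype p] [Fintype q] [DecidableEq p] [DecidableEq q]
    (β : Matrix p q R) (γ : Matrix q p R) (hγβ : γ * β = Δ • 1) :
    CokFree g (Nm β γ) := by
  set γB := (Cm γ).map g
  set βB := (Cm β).map g
  have hv : g (X 0) * g (X 1) = g (C Δ) := by rw [← map_mul, ← sub_eq_zero, ← map_sub]; exact hg
  have hNm : ∀ v : p ⊕ q → B, (Nm β γ).map g *ᵥ v =
      Sum.elim (g (X 0) • (v ∘ Sum.inl) + βB *ᵥ (v ∘ Sum.inr))
        (γB *ᵥ (v ∘ Sum.inl) + g (X 1) • (v ∘ Sum.inr)) := fun v => by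
    rw [Nm, Matrix.fromBlocks_map, Matrix.fromBlocks_mulVec]
    simp [Matrix.map_smul', Matrix.smul_mulVec, γB, βB]
  let π : (p ⊕ q → B) →ₗ[B] (q → B) :=
    LinearMap.funLeft B B Sum.inr - w • (γB.mulVecLin ∘ₗ LinearMap.funLeft B B Sum.inl)
  have hπ : ∀ v, π v = v ∘ Sum.inr - w • (γB *ᵥ (v ∘ Sum.inl)) := fun v => rfl
  refine CokFree.mk' g π (fun y => ⟨Sum.elim 0 y, by rw [hπ]; simp⟩) ?_
  ext v
  rw [LinearMap.mem_ker, hπ, sub_eq_zero]
  constructor
  · intro hv'
    refine ⟨Sum.elim (w • (v ∘ Sum.inl)) 0, ?_⟩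
    rw [Matrix.mulVecLin_apply, hNm, Sum.elim_comp_inl, Sum.elim_comp_inr, Matrix.mulVec_zero,
      smul_zero, add_zero, add_zero, Matrix.mulVec_smul, ← hv', smul_smul, hw, one_smul]
    exact Sum.elim_comp_inl_inr v
  · rintro ⟨y, rfl⟩
    rw [Matrix.mulVecLin_apply, hNm, Sum.elim_comp_inl, Sum.elim_comp_inr, Matrix.mulVec_add,
      Matrix.mulVec_smul, smul_add, smul_smul, mul_comm w, hw, one_smul, Matrix.mulVec_mulVec]
    congr 1
    have hgb : γB * βB = g (C Δ) • 1 := by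
      rw [← Matrix.map_mul, Cm_mul, hγβ]
      ext a b
      by_cases hab : a = b <;> simp [Cm, hab]
    rw [hgb, Matrix.smul_mulVec, Matrix.one_mulVec, smul_smul, ← hv, ← mul_assoc, mul_comm w, hw,
      one_mul]

section Main

variable [IsNoetherianRing R] [IsAdicComplete (maximalIdeal R) R] [IsDomain R]

lemma node_ne_zero (Δ : R) : node Δ ≠ 0 := by
  intro h
  have := congrArg (coeff (Finsupp.single 0 1 + Finsupp.single 1 1)) h
  rw [node, map_sub, X, X, monomial_mul_monomial, coeff_monomial_same, coeff_C, if_neg, one_mul,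
    sub_zero, map_zero] at this
  · exact one_ne_zero this
  · intro h0
    have := DFunLike.congr_fun h0 0
    simp at this

lemma mul_comm_of_eq_smul {A : Type*} [CommRing A] [IsDomain A] {c : A} (hc : c ≠ 0)
    {Φ Ψ : Matrix n n A} (h : Φ * Ψ = c • 1) : Ψ * Φ = c • 1 := by
  have hd : Φ.det ≠ 0 := by
    intro h0
    have := congrArg Matrix.det h
    rw [det_mul, h0, zero_mul, det_smul, det_one, mul_one] at this
    exact pow_ne_zero _ hc this.symm
  have e : Φ * (Ψ * Φ - c • 1) = 0 := by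
    rw [mul_sub, ← mul_assoc, h, Matrix.smul_mul, Matrix.mul_smul, mul_one, one_mul, sub_self]
  have := congrArg (Φ.adjugate * ·) e
  simp only [← mul_assoc, adjugate_mul, mul_zero, Matrix.smul_mul, one_mul, smul_eq_zero] at this
  exact sub_eq_zero.1 (this.resolve_left hd)

lemma sigma {d : ℕ} (i : Fin (d + 1)) :
    ∃ σ : Unit ⊕ Fin d ≃ Fin (d + 1), σ (.inl ()) = i :=
  ⟨(Equiv.sumComm _ _).trans ((Equiv.optionEquivSumPUnit _).symm.trans (finSuccEquiv' i).symm),
    by simp⟩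

theorem mf_cokFree (Δ : R) (w : B) (hw : g (X 0) * w = 1) (hg : g (node Δ) = 0) :
    ∀ (d : ℕ) (Φ Ψ : Matrix (Fin d) (Fin d) S), Φ * Ψ = node Δ • 1 → CokFree g Φ := by
  have : IsDomain S := NoZeroDivisors.to_isDomain _
  intro d
  induction d with
  | zero =>
    intro Φ Ψ _
    exact ⟨0, 0, fun y => ⟨0, Subsingleton.elim _ _⟩, Subsingleton.elim _ _⟩
  | succ d ih =>
    intro Φ Ψ h
    have h' := mul_comm_of_eq_smul (node_ne_zero Δ) h
    by_cases hΦ : ∃ i j, IsUnit (Φ i j)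
    · obtain ⟨i, j, hij⟩ := hΦ
      obtain ⟨σ, hσ⟩ := sigma i
      obtain ⟨τ, hτ⟩ := sigma j
      obtain ⟨P, Q, e, Φ', he, hPQ⟩ := exists_schur (Φ.submatrix σ τ)
        (by simpa [Matrix.submatrix_apply, hσ, hτ] using hij)
      refine CokFree.of_submatrix g σ τ (CokFree.of_units g P Q ?_)
      rw [hPQ]
      refine CokFree.block_unit g (he.map g) ?_
      have hmf : Φ.submatrix σ τ * Ψ.submatrix τ σ = node Δ • 1 := by
        rw [Matrix.submatrix_mul_equiv, h, Matrix.submatrix_smul, Pi.smul_apply, Pi.smul_apply,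
          Matrix.submatrix_one_equiv]
      have := conj_mf P Q hmf
      rw [hPQ] at this
      obtain ⟨A, B', C', D, hD⟩ : ∃ A B' C' D, _ = fromBlocks A B' C' D :=
        ⟨_, _, _, _, (fromBlocks_toBlocks ((↑Q⁻¹ : Matrix (Unit ⊕ Fin d) (Unit ⊕ Fin d) S) *
          Ψ.submatrix τ σ * (↑P⁻¹ : Matrix (Unit ⊕ Fin d) (Unit ⊕ Fin d) S))).symm⟩
      rw [hD, fromBlocks_multiply, ← fromBlocks_one, fromBlocks_smul, fromBlocks_inj] at this
      exact ih Φ' D (by simpa using this.2.2.2)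
    by_cases hΨ : ∃ i j, IsUnit (Ψ i j)
    · obtain ⟨i, j, hij⟩ := hΨ
      obtain ⟨τ, hτ⟩ := sigma i
      obtain ⟨σ, hσ⟩ := sigma j
      obtain ⟨P, Q, e, Ψ', he, hPQ⟩ := exists_schur (Ψ.submatrix τ σ)
        (by simpa [Matrix.submatrix_apply, hσ, hτ] using hij)
      have hmf : Φ.submatrix σ τ * Ψ.submatrix τ σ = node Δ • 1 := by
        rw [Matrix.submatrix_mul_equiv, h, Matrix.submatrix_smul, Pi.smul_apply, Pi.smul_apply,
          Matrix.submatrix_one_equiv]
      refine CokFree.of_submatrix g σ τ (CokFree.of_units g Q⁻¹ P⁻¹ ?_)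
      have h2 := conj_mf Q⁻¹ P⁻¹ hmf
      simp only [inv_inv] at h2
      rw [hPQ] at h2
      have h3 := mul_comm_of_eq_smul (node_ne_zero Δ) h2
      obtain ⟨A, B', C', D, hD⟩ : ∃ A B' C' D, _ = fromBlocks A B' C' D :=
        ⟨_, _, _, _, (fromBlocks_toBlocks ((↑Q⁻¹ : Matrix (Unit ⊕ Fin d) (Unit ⊕ Fin d) S) *
          Φ.submatrix σ τ * (↑P⁻¹ : Matrix (Unit ⊕ Fin d) (Unit ⊕ Fin d) S))).symm⟩
      rw [hD, fromBlocks_multiply, ← fromBlocks_one, fromBlocks_smul, fromBlocks_inj] at h2 h3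
      simp only [Matrix.mul_zero, Matrix.zero_mul, add_zero, zero_add, smul_zero, Matrix.smul_mul,
        Matrix.one_mul] at h2 h3
      obtain ⟨eu, rfl⟩ := he
      have hA : A = ((↑eu⁻¹ : S) * node Δ) • 1 := by
        have := congrArg ((↑eu⁻¹ : S) • ·) h3.1
        simpa [smul_smul] using this
      have hB : B' = 0 := by
        have := congrArg ((↑eu⁻¹ : S) • ·) h3.2.1
        simpa [smul_smul] using this
      have hC : C' = 0 := by
        have hz := congrArg (D * ·) h3.2.2.1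
        simp only [← Matrix.mul_assoc, h2.2.2.2, Matrix.smul_mul, Matrix.one_mul, Matrix.mul_zero] at hz
        exact (smul_eq_zero.1 hz).resolve_left (node_ne_zero Δ)
      rw [hD, hA, hB, hC]
      exact CokFree.block_zero g (by rw [map_mul, hg, mul_zero]) (ih D Ψ' h2.2.2.2)
    push Not at hΦ hΨ
    have hIn : ∀ {M : Matrix (Fin (d + 1)) (Fin (d + 1)) S}, (∀ i j, ¬ IsUnit (M i j)) → In 1 M :=
      fun hM i j => mem_F_one_iff.2 (fun hu => hM i j (MvPowerSeries.isUnit_iff_constantCoeff.2 hu))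
    obtain ⟨p, q, σ, P₀, Q₀, hP₀, hQ₀, h₀⟩ := init Δ Φ Ψ (hIn hΦ) (hIn hΨ) h h'
    have hmf : Φ.submatrix σ.symm σ.symm * Ψ.submatrix σ.symm σ.symm = node Δ • 1 := by
      rw [Matrix.submatrix_mul_equiv, h, Matrix.submatrix_smul, Pi.smul_apply, Pi.smul_apply,
        Matrix.submatrix_one_equiv]
    obtain ⟨P, Q, β, γ, hP, hQ, hN, -, hγβ⟩ := exists_normal Δ _ _ hmf P₀ Q₀ hP₀ hQ₀ h₀
    refine CokFree.of_submatrix g σ.symm σ.symm (CokFree.of_units g hP.unit hQ.unit ?_)
    rw [IsUnit.unit_spec, IsUnit.unit_spec, hN]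
    exact normal_cokFree g Δ w hw hg β γ hγβ

end Main

end Groth.Agent.H46.NodeUFD
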