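import Mathlib.RingTheory.MvPowerSeries.Inverse
import Mathlib.RingTheory.AdicCompletion.Basic
import Mathlib.RingTheory.Filtration
import Mathlib.RingTheory.LocalRing.ResidueField.Basic
import Mathlib.LinearAlgebra.Matrix.NonsingularInverse

/-!
The weight filtration on `R[[u, v]]` in which `u, v` have weight one and the maximal ideal of `R`
has weight two.
-/

set_option autoImplicit false
set_option linter.unusedSectionVars false

universe u

open IsLocalRing MvPowerSeries

namespace Groth.Agent.H46.NodeUFD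

variable {R : Type u} [CommRing R] [IsLocalRing R]

local notation "S" => MvPowerSeries (Fin 2) R

/-- The exponent of the maximal ideal at the coefficient `d` in weight `j`. -/
def ex (j : ℕ) (d : Fin 2 →₀ ℕ) : ℕ := (j - (d 0 + d 1) + 1) / 2

lemma ex_mono {i j : ℕ} (h : i ≤ j) (d : Fin 2 →₀ ℕ) : ex i d ≤ ex j d :=
  Nat.div_le_div_right (by omega)

lemma ex_add_single (j : ℕ) (d : Fin 2 →₀ ℕ) (k : Fin 2) :
    ex (j + 1) (d + Finsupp.single k 1) = ex j d := by
  fin_cases k <;> (unfold ex; congr 2; simp; omega)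

/-- The weight filtration. -/
def F (j : ℕ) : Ideal S where
  carrier := {f | ∀ d, coeff d f ∈ maximalIdeal R ^ ex j d}
  add_mem' := fun {f g} hf hg d => by rw [map_add]; exact add_mem (hf d) (hg d)
  zero_mem' := fun d => by simp
  smul_mem' := fun g f hf d => by
    classical
    rw [smul_eq_mul, coeff_mul]
    refine Ideal.sum_mem _ fun p hp => Ideal.mul_mem_left _ _ ?_
    refine Ideal.pow_le_pow_right (Nat.div_le_div_right ?_) (hf p.2)
    have := Finset.mem_antidiagonal.1 hp
    have h0 : p.1 0 + p.2 0 = d 0 := by rw [← Finsupp.add_apply, this]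
    have h1 : p.1 1 + p.2 1 = d 1 := by rw [← Finsupp.add_apply, this]
    omega

lemma mem_F {j : ℕ} {f : S} : f ∈ F j ↔ ∀ d, coeff d f ∈ maximalIdeal R ^ ex j d := Iff.rfl

lemma F_mono {i j : ℕ} (h : i ≤ j) : (F j : Ideal S) ≤ F i := fun _ hf d =>
  Ideal.pow_le_pow_right (ex_mono h d) (hf d)

lemma mem_F_zero (f : S) : f ∈ F 0 := fun d => by simp [ex]

lemma mul_mem_F {a b : ℕ} {f g : S} (hf : f ∈ F a) (hg : g ∈ F b) : f * g ∈ F (a + b) := by
  classical
  intro d
  rw [coeff_mul]
  refine Ideal.sum_mem _ fun p hp => ?_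
  have hmul := Ideal.mul_mem_mul (hf p.1) (hg p.2)
  rw [← pow_add] at hmul
  refine Ideal.pow_le_pow_right ?_ hmul
  have := Finset.mem_antidiagonal.1 hp
  have h0 : p.1 0 + p.2 0 = d 0 := by rw [← Finsupp.add_apply, this]
  have h1 : p.1 1 + p.2 1 = d 1 := by rw [← Finsupp.add_apply, this]
  unfold ex
  omega

lemma mem_F_one_iff {f : S} : f ∈ F 1 ↔ constantCoeff f ∈ maximalIdeal R := by
  constructor
  · intro h
    simpa [ex] using h 0
  · intro h d
    rcases eq_or_ne d 0 with rfl | hd
    · simpa [ex] using h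
    · have hs : d 0 + d 1 ≠ 0 := fun h0 => hd (Finsupp.ext fun i => by
        fin_cases i <;> simp <;> omega)
      have : ex 1 d = 0 := by unfold ex; omega
      simp [this]

lemma X_mem_F (k : Fin 2) : (X k : S) ∈ F 1 := mem_F_one_iff.2 (by simp)

lemma C_mem_F {i j : ℕ} (hij : j ≤ 2 * i) {r : R} (hr : r ∈ maximalIdeal R ^ i) : (C r : S) ∈ F j := by
  classical
  intro d
  rw [coeff_C]
  split_ifs with hd
  · subst hd
    exact Ideal.pow_le_pow_right (by unfold ex; simp; omega) hr
  · exact Submodule.zero_mem _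

lemma C_constantCoeff_mem {j : ℕ} {f : S} (hf : f ∈ F j) : (C (constantCoeff f) : S) ∈ F j := by
  classical
  intro d
  rw [coeff_C]
  split_ifs with hd
  · subst hd
    simpa using hf 0
  · exact Submodule.zero_mem _

lemma C_mem_F_iff {i : ℕ} {r : R} : (C r : S) ∈ F (2 * i) ↔ r ∈ maximalIdeal R ^ i := by
  refine ⟨fun h => ?_, C_mem_F le_rfl⟩
  have := h 0
  rw [coeff_zero_eq_constantCoeff_apply, constantCoeff_C] at this
  have he : ex (2 * i) (0 : Fin 2 →₀ ℕ) = i := by unfold ex; simp; omega
  rwa [he] at this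

lemma eq_zero_of_forall [IsNoetherianRing R] {f : S} (h : ∀ j, f ∈ F j) : f = 0 := by
  refine MvPowerSeries.ext fun d => ?_
  rw [map_zero, ← Ideal.mem_bot, ← Ideal.iInf_pow_eq_bot_of_isLocalRing (maximalIdeal R)
    (maximalIdeal.isMaximal R).ne_top, Ideal.mem_iInf]
  intro i
  have := h (2 * i + (d 0 + d 1)) d
  have he : ex (2 * i + (d 0 + d 1)) d = i := by unfold ex; omega
  rwa [he] at this

lemma exists_limit [IsAdicComplete (maximalIdeal R) R] (f : ℕ → S)
    (h : ∀ j, f (j + 1) - f j ∈ F j) : ∃ g : S, ∀ j, g - f j ∈ F j := by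
  have hcauchy : ∀ {m n : ℕ}, m ≤ n → f n - f m ∈ F m := by
    intro m n hmn
    induction n, hmn using Nat.le_induction with
    | base => simp
    | succ n hmn ih =>
      have := add_mem (F_mono hmn (h n)) ih
      rwa [sub_add_sub_cancel] at this
  have hmem : ∀ (d : Fin 2 →₀ ℕ) {m n : ℕ}, m ≤ n →
      coeff d (f n) - coeff d (f m) ∈ maximalIdeal R ^ ex m d := fun d m n hmn => by
    rw [← map_sub]; exact hcauchy hmn d
  have hlim : ∀ d : Fin 2 →₀ ℕ, ∃ L : R, ∀ i,
      coeff d (f (2 * i + (d 0 + d 1))) - L ∈ maximalIdeal R ^ i := by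
    intro d
    obtain ⟨L, hL⟩ := IsPrecomplete.prec' (I := maximalIdeal R)
      (fun i => coeff d (f (2 * i + (d 0 + d 1)))) (fun {m n} hmn => by
        rw [SModEq.sub_mem, smul_eq_mul, Ideal.mul_top]
        have := hmem d (show 2 * m + (d 0 + d 1) ≤ 2 * n + (d 0 + d 1) by omega)
        have he : ex (2 * m + (d 0 + d 1)) d = m := by unfold ex; omega
        rw [he] at this
        rw [← neg_sub]
        exact neg_mem this)
    refine ⟨L, fun i => ?_⟩
    have := hL i
    rwa [SModEq.sub_mem, smul_eq_mul, Ideal.mul_top] at this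
  choose L hL using hlim
  refine ⟨(L : S), fun j d => ?_⟩
  rw [map_sub]
  show L d - coeff d (f j) ∈ _
  have h1 := hL d (ex j d)
  have hj : j ≤ 2 * ex j d + (d 0 + d 1) := by unfold ex; omega
  have h2 := hmem d hj
  have := add_mem h1 (neg_mem h1)
  have h3 := sub_mem h2 h1
  simpa using h3

/-- The quotient of a series by a variable. -/
noncomputable def dX (k : Fin 2) (f : S) : S := fun d => coeff (d + Finsupp.single k 1) f

/-- The part of a series free of a variable. -/
noncomputable def rX (k : Fin 2) (f : S) : S := fun d => if d k = 0 then coeff d f else 0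

lemma coeff_dX (k : Fin 2) (f : S) (d : Fin 2 →₀ ℕ) :
    coeff d (dX k f) = coeff (d + Finsupp.single k 1) f := rfl

lemma coeff_rX (k : Fin 2) (f : S) (d : Fin 2 →₀ ℕ) :
    coeff d (rX k f) = if d k = 0 then coeff d f else 0 := rfl

lemma coeff_X_mul_add (k : Fin 2) (f : S) (d : Fin 2 →₀ ℕ) :
    coeff (d + Finsupp.single k 1) (X k * f) = coeff d f := by
  rw [X, add_comm, coeff_add_monomial_mul, one_mul]

lemma coeff_X_mul_of_eq_zero (k : Fin 2) (f : S) {d : Fin 2 →₀ ℕ} (hd : d k = 0) :
    coeff d (X k * f) = 0 := by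
  classical
  rw [X, coeff_monomial_mul, if_neg]
  rw [Finsupp.single_le_iff]
  omega

lemma decomp (k : Fin 2) (f : S) : f = X k * dX k f + rX k f := by
  classical
  refine MvPowerSeries.ext fun d => ?_
  rw [map_add, coeff_rX]
  by_cases hd : d k = 0
  · rw [if_pos hd, coeff_X_mul_of_eq_zero k _ hd, zero_add]
  · obtain ⟨e, rfl⟩ : ∃ e, d = e + Finsupp.single k 1 :=
      ⟨d - Finsupp.single k 1, (tsub_add_cancel_of_le (Finsupp.single_le_iff.2 (by omega))).symm⟩
    rw [if_neg hd, coeff_X_mul_add, coeff_dX, add_zero]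

lemma decomp₂ {k l : Fin 2} (hkl : k ≠ l) (f : S) :
    f = X k * dX k f + X l * dX l (rX k f) + C (constantCoeff f) := by
  classical
  have h : rX l (rX k f) = C (constantCoeff f) := by
    refine MvPowerSeries.ext fun d => ?_
    rw [coeff_rX, coeff_rX, coeff_C]
    rcases eq_or_ne d 0 with rfl | hd
    · simp
    · rw [if_neg hd]
      split_ifs with h1 h2
      · refine absurd (Finsupp.ext fun i => ?_) hd
        revert hkl h1 h2
        fin_cases k <;> fin_cases l <;> fin_cases i <;> simp_all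
      · rfl
      · rfl
  calc f = X k * dX k f + rX k f := decomp k f
    _ = _ := by rw [add_assoc, ← h, ← decomp l (rX k f)]

lemma X_mul_mem_iff {k : Fin 2} {f : S} {j : ℕ} : X k * f ∈ F (j + 1) ↔ f ∈ F j := by
  refine ⟨fun h d => ?_, fun h => ?_⟩
  · have := h (d + Finsupp.single k 1)
    rwa [coeff_X_mul_add, ex_add_single] at this
  · rw [add_comm j]
    exact mul_mem_F (X_mem_F k) h

lemma dX_mem {k : Fin 2} {f : S} {j : ℕ} (h : f ∈ F (j + 1)) : dX k f ∈ F j := fun d => by
  rw [coeff_dX, ← ex_add_single j d k]; exact h _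

lemma rX_mem {k : Fin 2} {f : S} {j : ℕ} (h : f ∈ F j) : rX k f ∈ F j := fun d => by
  rw [coeff_rX]; split_ifs
  · exact h d
  · exact Submodule.zero_mem _

/-- The linear equation `u x + v y = c`. -/
lemma lin_solve {k l : Fin 2} (hkl : k ≠ l) {x y : S} {r : R} {j : ℕ}
    (h : X k * x + X l * y + C r ∈ F (j + 1)) : rX k y ∈ F j ∧ (C r : S) ∈ F (j + 1) := by
  classical
  refine ⟨fun d => ?_, ?_⟩
  · rw [coeff_rX]
    split_ifs with hd
    · have := h (d + Finsupp.single l 1)
      rw [map_add, map_add, ex_add_single, coeff_X_mul_add, coeff_X_mul_of_eq_zero, coeff_C,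
        if_neg, zero_add, add_zero] at this
      · exact this
      · intro h0
        simpa using DFunLike.congr_fun h0 l
      · simp [hd, hkl]
    · exact Submodule.zero_mem _
  · have := C_constantCoeff_mem h
    simpa using this

lemma lin_solve₁ {k : Fin 2} {x : S} {r : R} {j : ℕ} (h : X k * x + C r ∈ F (j + 1)) :
    x ∈ F j ∧ (C r : S) ∈ F (j + 1) := by
  have hC : (C r : S) ∈ F (j + 1) := by
    have := C_constantCoeff_mem h
    simpa using this
  exact ⟨X_mul_mem_iff.1 (by simpa using sub_mem h hC), hC⟩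

section Matrix

variable {p q s : Type*}

/-- All entries lie in weight `j`. -/
def In (j : ℕ) (M : Matrix p q S) : Prop := ∀ a b, M a b ∈ F j

lemma In.add {j : ℕ} {M N : Matrix p q S} (h : In j M) (h' : In j N) : In j (M + N) :=
  fun a b => add_mem (h a b) (h' a b)

lemma In.sub {j : ℕ} {M N : Matrix p q S} (h : In j M) (h' : In j N) : In j (M - N) :=
  fun a b => sub_mem (h a b) (h' a b)

lemma In.neg {j : ℕ} {M : Matrix p q S} (h : In j M) : In j (-M) := fun a b => neg_mem (h a b)

lemma In.mono {i j : ℕ} (hij : i ≤ j) {M : Matrix p q S} (h : In j M) : In i M :=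
  fun a b => F_mono hij (h a b)

lemma In.zero (j : ℕ) : In j (0 : Matrix p q S) := fun _ _ => Submodule.zero_mem _

lemma In.of_zero (M : Matrix p q S) : In 0 M := fun _ _ => mem_F_zero _

lemma In.mul {a b : ℕ} [Fintype q] {M : Matrix p q S} {N : Matrix q s S} (h : In a M) (h' : In b N) :
    In (a + b) (M * N) := fun i k => by
  rw [Matrix.mul_apply]
  exact Ideal.sum_mem _ fun l _ => mul_mem_F (h i l) (h' l k)

lemma In.mul_left {j : ℕ} [Fintype q] (M : Matrix p q S) {N : Matrix q s S} (h : In j N) :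
    In j (M * N) := by simpa using (In.of_zero M).mul h

lemma In.mul_right {j : ℕ} [Fintype q] {M : Matrix p q S} (N : Matrix q s S) (h : In j M) :
    In j (M * N) := by simpa using h.mul (In.of_zero N)

lemma In.X_smul {j : ℕ} (k : Fin 2) {M : Matrix p q S} (h : In j M) :
    In (j + 1) ((X k : S) • M) := fun a b => X_mul_mem_iff.2 (h a b)

lemma isUnit_of_one_sub {n : Type*} [Fintype n] [DecidableEq n] {P : Matrix n n S}
    (h : In 1 (P - 1)) : IsUnit P := by
  rw [Matrix.isUnit_iff_isUnit_det, MvPowerSeries.isUnit_iff_constantCoeff,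
    ← IsLocalRing.residue_ne_zero_iff_isUnit]
  have hφ : ((residue R).comp (constantCoeff (σ := Fin 2))).mapMatrix P = 1 := by
    ext a b
    have := mem_F_one_iff.1 (h a b)
    rw [Matrix.sub_apply, map_sub, ← residue_eq_zero_iff, map_sub, sub_eq_zero] at this
    rw [RingHom.mapMatrix_apply, Matrix.map_apply, RingHom.comp_apply, this]
    by_cases hab : a = b <;> simp [Matrix.one_apply, hab]
  rw [← RingHom.comp_apply, RingHom.map_det, hφ, Matrix.det_one]
  exact one_ne_zero

end Matrix

end Groth.Agent.H46.NodeUFD
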