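import Groth.Agent.H46.NodeUFD.Cok
import Groth.Agent.H23.Node.Basic
import Groth.Agent.Lib.Regular.UFD
import Groth.Agent.Lib.Cohen.PSRegular
import Mathlib.Algebra.Module.LocalizedModule.Exact
import Mathlib.RingTheory.Ideal.MinimalPrime.Localization

/-!
`R[[u, v]]/(uv - Δ)` is factorial for a complete regular local ring `R` and a prime `Δ`.
-/

set_option autoImplicit false
set_option linter.unusedSectionVars false

universe u

open IsLocalRing MvPowerSeries ArLef
open Groth.Agent.Lib.Regular Groth.Agent.Lib.Regular.PD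
open Groth.Agent.H23.Node.Basic

namespace Groth.Agent.H46.NodeUFD

/-- A localization at a maximal ideal with residue ring of finite projective dimension is regular. -/
lemma regular_of_pdle {T : Type u} [CommRing T] [IsNoetherianRing T] (I : Ideal T) [I.IsMaximal]
    {r : ℕ} (h : PDle T (T ⧸ I) r) : IsRegularLocalRing (Localization.AtPrime I) := by
  set C' := Localization.AtPrime I
  have hm : I.localized' C' I.primeCompl (Algebra.linearMap T C') = maximalIdeal C' := by
    rw [Ideal.localized'_eq_map, Localization.AtPrime.map_eq_maximalIdeal]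
  refine Serre.of_pdle_residue r (pdle_of_equiv (Submodule.quotEquivOfEq _ _ hm) ?_)
  exact pdle_localization I.primeCompl C' r
    (I.toLocalizedQuotient' C' I.primeCompl (Algebra.linearMap T C')) h

variable {R : Type u} [CommRing R] [IsRegularLocalRing R] [IsAdicComplete (maximalIdeal R) R]

local notation "S" => MvPowerSeries (Fin 2) R

lemma mk_node (Δ : R) : (Ideal.Quotient.mk _ (node Δ) : NodeAlg R Δ) = 0 :=
  Ideal.Quotient.eq_zero_iff_mem.2 (Ideal.mem_span_singleton_self _)

lemma isDomain_S : IsDomain S :=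
  haveI : IsDomain R := Quotient.isDomain R
  NoZeroDivisors.to_isDomain _

lemma isRegular_S : IsRegularLocalRing S := (Groth.Agent.Lib.Cohen.PSRegular.mvPowerSeries R 2).1

/-- `A^k` has projective dimension at most one over `S`. -/
lemma pdle_one_pi (Δ : R) (k : ℕ) : PDle S (Fin k → NodeAlg R Δ) 1 := by
  have := isDomain_S (R := R)
  have : IsDomain R := Quotient.isDomain R
  let q : (Fin k → S) →ₗ[S] (Fin k → NodeAlg R Δ) :=
    LinearMap.pi fun i => Algebra.linearMap S (NodeAlg R Δ) ∘ₗ LinearMap.proj i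
  have hq : Function.Surjective q := fun y => by
    choose x hx using fun i => Ideal.Quotient.mk_surjective (y i)
    exact ⟨x, funext hx⟩
  rw [pdle_succ_iff hq 0, pdle_zero_iff]
  let m : (Fin k → S) →ₗ[S] LinearMap.ker q :=
    LinearMap.codRestrict _ (node Δ • LinearMap.id) fun x => funext fun i => by
      show Ideal.Quotient.mk _ (node Δ * x i) = 0
      rw [map_mul, mk_node, zero_mul]
  refine Module.Projective.of_equiv (LinearEquiv.ofBijective m ⟨fun x y h => ?_, fun z => ?_⟩)
  · have h' : node Δ • x = node Δ • y := congrArg Subtype.val h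
    exact funext fun i => mul_left_cancel₀ (node_ne_zero Δ) (congrFun h' i)
  · have hz : ∀ i, node Δ ∣ z.1 i := fun i => by
      have : (Ideal.Quotient.mk _ (z.1 i) : NodeAlg R Δ) = 0 := congrFun z.2 i
      rwa [Ideal.Quotient.eq_zero_iff_mem, Ideal.mem_span_singleton] at this
    choose x hx using hz
    exact ⟨x, Subtype.ext (funext fun i => (hx i).symm)⟩

variable (Δ : R) (B : Type u) [CommRing B] [Algebra (NodeAlg R Δ) B]
  [IsLocalization.Away (NodeAlg.t Δ) B]

set_option maxHeartbeats 800000 in
/-- A module of depth at least `dim` over `A` becomes free after inverting `u`. -/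
theorem free_localized (N : Type u) [AddCommGroup N] [Module (NodeAlg R Δ) N] [Module.Finite (NodeAlg R Δ) N]
    [Module S N] [IsScalarTower S (NodeAlg R Δ) N] (hN : PDle S N 1)
    (N' : Type u) [AddCommGroup N'] [Module (NodeAlg R Δ) N'] [Module B N']
    [IsScalarTower (NodeAlg R Δ) B N'] (g : N →ₗ[NodeAlg R Δ] N')
    [IsLocalizedModule (Submonoid.powers (NodeAlg.t Δ)) g] : Module.Free B N' := by
  classical
  have := isDomain_S (R := R)
  have : IsDomain R := Quotient.isDomain R
  have := isRegular_S (R := R)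
  let A := NodeAlg R Δ
  let M := Submonoid.powers (NodeAlg.t Δ)
  have : Module.Finite S N := Module.Finite.trans (NodeAlg R Δ) N
  obtain ⟨n, p, hp⟩ := exists_free_cover (R := S) N
  have hproj : Module.Projective S (LinearMap.ker p) := pdle_zero_iff.1 ((pdle_succ_iff hp 0).1 hN)
  have : Module.Free S (LinearMap.ker p) := Module.free_of_flat_of_isLocalRing
  let bK := Module.Free.chooseBasis S (LinearMap.ker p)
  obtain ⟨d, ⟨eK⟩⟩ : ∃ d, Nonempty ((Fin d → S) ≃ₗ[S] LinearMap.ker p) :=
    ⟨_, ⟨(bK.reindex (Fintype.equivFin _)).equivFun.symm⟩⟩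
  have hfp : ∀ v, node Δ • v ∈ LinearMap.ker p := fun v => by
    rw [LinearMap.mem_ker, map_smul, ← IsScalarTower.algebraMap_smul (NodeAlg R Δ) (node Δ) (p v)]
    rw [show algebraMap S (NodeAlg R Δ) (node Δ) = 0 from mk_node Δ]
    exact zero_smul (NodeAlg R Δ) (p v)
  let ψ : (Fin n → S) →ₗ[S] (Fin d → S) :=
    eK.symm.toLinearMap ∘ₗ LinearMap.codRestrict _ (node Δ • LinearMap.id) hfp
  let φ : (Fin d → S) →ₗ[S] (Fin n → S) := (LinearMap.ker p).subtype ∘ₗ eK.toLinearMap
  have hφψ : φ ∘ₗ ψ = node Δ • LinearMap.id := LinearMap.ext fun v => by simp [φ, ψ]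
  have hd : d = n := by
    have h1 := card_le_of_injective S φ ((LinearMap.ker p).injective_subtype.comp eK.injective)
    have h2 := card_le_of_injective S ψ (eK.symm.injective.comp fun x y h => funext fun i =>
      mul_left_cancel₀ (node_ne_zero Δ) (congrFun (congrArg Subtype.val h) i))
    simp only [Fintype.card_fin] at h1 h2
    omega
  subst hd
  let Φ := LinearMap.toMatrix' φ
  let Ψ := LinearMap.toMatrix' ψ
  have hMF : Φ * Ψ = node Δ • 1 := by
    rw [← LinearMap.toMatrix'_comp, hφψ, map_smul, LinearMap.toMatrix'_id]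
  obtain ⟨w, hw⟩ : IsUnit (algebraMap (NodeAlg R Δ) B (NodeAlg.t Δ)) :=
    IsLocalization.Away.algebraMap_isUnit (NodeAlg.t Δ)
  let gB : S →+* B := (algebraMap (NodeAlg R Δ) B).comp (Ideal.Quotient.mk _)
  obtain ⟨k, π, hπ, hker⟩ := mf_cokFree gB Δ (↑w⁻¹ : B)
    (by show algebraMap _ B (NodeAlg.t Δ) * _ = 1; rw [← hw, Units.mul_inv])
    (by show algebraMap _ B (Ideal.Quotient.mk _ (node Δ)) = 0; rw [mk_node, map_zero]) d Φ Ψ hMF
  -- the presentation over `A`
  let ΦA : Matrix (Fin d) (Fin d) A := Φ.map (Ideal.Quotient.mk _)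
  let pA : (Fin d → A) →ₗ[A] N := Fintype.linearCombination A fun i => p (Pi.single i 1)
  have hpA : ∀ x : Fin d → S, pA (fun i => Ideal.Quotient.mk _ (x i)) = p x := fun x => by
    conv_rhs => rw [pi_eq_sum_univ' x, map_sum]
    rw [Fintype.linearCombination_apply]
    refine Finset.sum_congr rfl fun i _ => ?_
    rw [map_smul]
    exact IsScalarTower.algebraMap_smul A (x i) _
  have hex : Function.Exact ΦA.mulVecLin pA := fun y => by
    choose x hx using fun i => Ideal.Quotient.mk_surjective (y i)
    have hy : y = fun i => Ideal.Quotient.mk _ (x i) := (funext hx).symm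
    have hΦx : ∀ z : Fin d → S, ΦA.mulVecLin (fun i => Ideal.Quotient.mk _ (z i)) =
        fun i => Ideal.Quotient.mk _ (φ z i) := fun z => funext fun i => by
      rw [show φ z = Matrix.mulVec Φ z from (LinearMap.toMatrix'_mulVec φ z).symm]
      exact (RingHom.map_mulVec _ Φ z i).symm
    constructor
    · intro h
      rw [hy, hpA] at h
      refine ⟨fun i => Ideal.Quotient.mk _ (eK.symm ⟨x, h⟩ i), ?_⟩
      rw [hΦx, hy]
      simp [φ]
    · rintro ⟨z, rfl⟩
      choose z' hz' using fun i => Ideal.Quotient.mk_surjective (z i)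
      rw [show z = fun i => Ideal.Quotient.mk _ (z' i) from (funext hz').symm, hΦx, hpA]
      exact (eK z').2
  -- localise
  have : IsLocalizedModule M (Algebra.linearMap A B) :=
    (isLocalizedModule_iff_isLocalization' M B).mpr inferInstance
  let ι : (Fin d → A) →ₗ[A] (Fin d → B) := .pi fun i => Algebra.linearMap A B ∘ₗ .proj i
  have hι : IsLocalizedModule M ι := inferInstance
  let pB : (Fin d → B) →ₗ[B] N' := IsLocalizedModule.mapExtendScalars M ι g B pA
  have hpAs : Function.Surjective pA := fun y => by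
    obtain ⟨x, hx⟩ := hp y
    exact ⟨_, (hpA x).trans hx⟩
  have hpB : Function.Surjective pB := IsLocalizedModule.map_surjective M ι g pA hpAs
  have hexB : Function.Exact (IsLocalizedModule.map M ι ι ΦA.mulVecLin) pB :=
    IsLocalizedModule.map_exact M ι ι g _ _ hex
  have hmap : (IsLocalizedModule.map M ι ι ΦA.mulVecLin) =
      ((Φ.map gB).mulVecLin).restrictScalars A := by
    refine IsLocalizedModule.ext M ι (IsLocalizedModule.map_units ι) ?_
    rw [IsLocalizedModule.map_comp]
    refine LinearMap.ext fun x => funext fun i => ?_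
    exact RingHom.map_mulVec (algebraMap A B) ΦA x i
  have hker' : LinearMap.ker π = LinearMap.ker pB := by
    rw [hker]
    ext y
    rw [LinearMap.mem_ker, hexB y, hmap]
    rfl
  exact Module.Free.of_equiv ((π.quotKerEquivOfSurjective hπ).symm.trans
    ((Submodule.quotEquivOfEq _ _ hker').trans (pB.quotKerEquivOfSurjective hpB)))

/-- Localizations of finite modules have finite projective dimension, and are stably free when
projective. -/
theorem pd_localized : ∀ (r : ℕ) {M M' : Type u} [AddCommGroup M] [Module (NodeAlg R Δ) M]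
    [Module.Finite (NodeAlg R Δ) M] [Module S M] [IsScalarTower S (NodeAlg R Δ) M]
    [AddCommGroup M'] [Module (NodeAlg R Δ) M'] [Module B M'] [IsScalarTower (NodeAlg R Δ) B M']
    (g : M →ₗ[NodeAlg R Δ] M') [IsLocalizedModule (Submonoid.powers (NodeAlg.t Δ)) g],
    PDle S M (r + 1) → PDle B M' r ∧
      (Module.Projective B M' → ∃ a b : ℕ, Nonempty ((M' × (Fin a → B)) ≃ₗ[B] (Fin b → B))) := by
  intro r
  induction r with
  | zero =>
    intro M M' _ _ _ _ _ _ _ _ _ g _ h
    have := free_localized Δ B M h M' g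
    refine ⟨pdle_zero_iff.2 inferInstance, fun _ => ?_⟩
    have : Module.Finite B M' :=
      Module.Finite.of_isLocalizedModule (Submonoid.powers (NodeAlg.t Δ)) (Rₚ := B) g
    let b := Module.Free.chooseBasis B M'
    exact ⟨0, Fintype.card (Module.Free.ChooseBasisIndex B M'), ⟨(LinearEquiv.prodUnique).trans
      (b.equivFun.trans (LinearEquiv.funCongrLeft B B (Fintype.equivFin _).symm))⟩⟩
  | succ r ih =>
    intro M M' _ _ _ _ _ _ _ _ _ g _ h
    let A := NodeAlg R Δ
    let W := Submonoid.powers (NodeAlg.t Δ)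
    obtain ⟨k, f, hf⟩ := exists_free_cover (R := A) M
    have : IsLocalizedModule W (Algebra.linearMap A B) :=
      (isLocalizedModule_iff_isLocalization' W B).mpr inferInstance
    let ι : (Fin k → A) →ₗ[A] (Fin k → B) := .pi fun i => Algebra.linearMap A B ∘ₗ .proj i
    have hι : IsLocalizedModule W ι := inferInstance
    let fA : (Fin k → B) →ₗ[B] M' := IsLocalizedModule.mapExtendScalars W ι g B f
    have hfA : Function.Surjective fA := IsLocalizedModule.map_surjective W ι g f hf
    let g' : LinearMap.ker f →ₗ[A] LinearMap.ker fA := LinearMap.toKerIsLocalized W ι g f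
    have : IsLocalizedModule W g' := LinearMap.toKerLocalized_isLocalizedModule B W ι g f
    have hK : PDle S (LinearMap.ker f) (r + 1) := by
      have h2 : PDle S (Fin k → A) (r + 1) := pdle_mono (pdle_one_pi Δ k) (by omega)
      have hs := LinearMap.shortExact_shortComplexKer (f := f.restrictScalars S) hf
      have := hs.hasProjectiveDimensionLT_X₁ (r + 2) h2 h
      exact pdle_of_equiv (M := LinearMap.ker (f.restrictScalars S))
        ({ LinearEquiv.refl S _ with } : LinearMap.ker (f.restrictScalars S) ≃ₗ[S] LinearMap.ker f) this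
    obtain ⟨hpd, hsf⟩ := ih g' hK
    refine ⟨(pdle_succ_iff hfA r).2 hpd, fun hP => ?_⟩
    obtain ⟨s, hs⟩ := Module.projective_lifting_property fA LinearMap.id hfA
    let e : (LinearMap.ker fA × M') ≃ₗ[B] (Fin k → B) :=
      ((Function.Exact.splitSurjectiveEquiv (LinearMap.exact_subtype_ker_map fA)
        Subtype.val_injective ⟨s, hs⟩).1).symm
    have : Module.Projective B (LinearMap.ker fA) :=
      Module.Projective.of_split (e.toLinearMap ∘ₗ LinearMap.inl B _ _)
        (LinearMap.fst B _ _ ∘ₗ e.symm.toLinearMap) (by ext x; simp)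
    obtain ⟨a, b, ⟨w⟩⟩ := hsf this
    refine ⟨b, a + k, ⟨?_⟩⟩
    exact ((LinearEquiv.refl B M').prodCongr w.symm).trans <|
      (LinearEquiv.prodAssoc B M' (LinearMap.ker fA) (Fin a → B)).symm.trans <|
      (((LinearEquiv.prodComm B M' (LinearMap.ker fA)).trans e).prodCongr (LinearEquiv.refl B _)).trans <|
      (LinearEquiv.prodComm B _ _).trans <|
      (LinearEquiv.sumArrowLequivProdArrow (Fin a) (Fin k) B B).symm.trans
        (LinearEquiv.funCongrLeft B B finSumFinEquiv.symm)

theorem pd_localized_all {M M' : Type u} [AddCommGroup M] [Module (NodeAlg R Δ) M]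
    [Module.Finite (NodeAlg R Δ) M] [Module S M] [IsScalarTower S (NodeAlg R Δ) M]
    [AddCommGroup M'] [Module (NodeAlg R Δ) M'] [Module B M'] [IsScalarTower (NodeAlg R Δ) B M']
    (g : M →ₗ[NodeAlg R Δ] M') [IsLocalizedModule (Submonoid.powers (NodeAlg.t Δ)) g] :
    (∃ r, PDle B M' r) ∧
      (Module.Projective B M' → ∃ a b : ℕ, Nonempty ((M' × (Fin a → B)) ≃ₗ[B] (Fin b → B))) := by
  have := isRegular_S (R := R)
  have : Module.Finite S M := Module.Finite.trans (NodeAlg R Δ) M
  have := pd_localized Δ B _ g (pdle_mono (Serre.pdle_all (R := S) M) (Nat.le_succ _))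
  exact ⟨⟨_, this.1⟩, this.2⟩

include Δ in
lemma exists_pdle_quotient (I : Ideal B) : ∃ r, PDle B (B ⧸ I) r := by
  let W := Submonoid.powers (NodeAlg.t Δ)
  let J : Ideal (NodeAlg R Δ) := I.comap (algebraMap (NodeAlg R Δ) B)
  have hJ : J.localized' B W (Algebra.linearMap (NodeAlg R Δ) B) = I := by
    rw [Ideal.localized'_eq_map]; exact IsLocalization.map_under W B I
  obtain ⟨r, hr⟩ := (pd_localized_all Δ B (M := NodeAlg R Δ ⧸ J)
    (J.toLocalizedQuotient' B W (Algebra.linearMap (NodeAlg R Δ) B))).1
  exact ⟨r, pdle_of_equiv (Submodule.quotEquivOfEq _ _ hJ) hr⟩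

include Δ in
/-- `A[1/u]` is regular. -/
theorem isRegularLocalRing_atPrime (I : Ideal B) [hI : I.IsMaximal] :
    IsRegularLocalRing (Localization.AtPrime I) := by
  have : IsNoetherianRing B := IsLocalization.isNoetherianRing (Submonoid.powers (NodeAlg.t Δ)) B inferInstance
  obtain ⟨r, hr⟩ := exists_pdle_quotient Δ B I
  exact regular_of_pdle I hr

omit [IsAdicComplete (maximalIdeal R) R] in
lemma t_mul_eq_zero {Δ : R} (hΔ : Δ ≠ 0) {a : NodeAlg R Δ} (ha : NodeAlg.t Δ * a = 0) : a = 0 := by
  classical
  have : IsDomain R := Quotient.isDomain R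
  have : IsDomain S := NoZeroDivisors.to_isDomain _
  obtain ⟨f, rfl⟩ := Ideal.Quotient.mk_surjective a
  rw [← map_mul, Ideal.Quotient.eq_zero_iff_mem, Ideal.mem_span_singleton] at ha
  obtain ⟨g, hg⟩ := ha
  obtain ⟨g', rfl⟩ : X 0 ∣ g := by
    rw [X_dvd_iff]
    intro m hm
    have := congrArg (coeff m) hg
    rw [X, coeff_monomial_mul, if_neg (by rw [Finsupp.single_le_iff]; omega), sub_mul, map_sub,
      coeff_C_mul, X, monomial_mul_monomial, coeff_monomial_mul, if_neg, zero_sub,
      zero_eq_neg, mul_eq_zero] at this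
    · exact this.resolve_left hΔ
    · intro h
      have := h 0
      simp at this
      omega
  refine Ideal.Quotient.eq_zero_iff_mem.2 (Ideal.mem_span_singleton.2 ⟨g', ?_⟩)
  have hX : (X 0 : S) ≠ 0 := by
    intro h
    simpa [coeff_X] using congrArg (coeff (Finsupp.single 0 1)) h
  apply mul_left_cancel₀ hX
  rw [hg]; ring

omit [IsAdicComplete (maximalIdeal R) R] in
lemma nontrivial_quot {Δ : R} (h : Δ ∈ maximalIdeal R) : Nontrivial (R ⧸ Ideal.span {Δ}) :=
  Ideal.Quotient.nontrivial_iff.mpr fun e => (maximalIdeal.isMaximal R).ne_top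
    (top_le_iff.1 (e ▸ (Ideal.span_singleton_le_iff_mem _).2 h))

omit [IsAdicComplete (maximalIdeal R) R] in
lemma node_local {Δ : R} (h : Δ ∈ maximalIdeal R) :
    IsLocalRing (NodeAlg R Δ) ∧ NodeAlg.t Δ ∈ nonunits (NodeAlg R Δ) := by
  have := nontrivial_quot h
  have : Nontrivial (NodeAlg R Δ) := ⟨⟨_, _, xv_ne_zero (π := Δ) 0⟩⟩
  refine ⟨IsLocalRing.of_surjective' (Ideal.Quotient.mk _) Ideal.Quotient.mk_surjective, fun hu => ?_⟩
  have := hu.map (branch Δ 0 1 (by decide))
  rw [show branch Δ 0 1 (by decide) (NodeAlg.t Δ) = 0 by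
    rw [← xv_zero, xv, branch_mk, axis_X_ne (π := Δ) (i := (0 : Fin 2)) (j := 1) (by decide)]] at this
  exact not_isUnit_zero this

theorem isDomain_node {Δ : R} (hΔ : Prime Δ) : IsDomain (NodeAlg R Δ) := by
  have hm : Δ ∈ maximalIdeal R := hΔ.not_isUnit
  obtain ⟨hloc, htu⟩ := node_local hm
  have := nontrivial_quot hm
  have : (Ideal.span {Δ}).IsPrime := (Ideal.span_singleton_prime hΔ.ne_zero).2 hΔ
  have hp : Prime (NodeAlg.t Δ) :=
    prime_of_axis (π := Δ) (i := (0 : Fin 2)) (j := 1) (by decide) (xv_ne_zero 0)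
  have hP : (Ideal.span {NodeAlg.t Δ}).IsPrime := (Ideal.span_singleton_prime hp.ne_zero).2 hp
  obtain ⟨q, hq, hqP⟩ := Ideal.exists_minimalPrimes_le (I := ⊥) (J := Ideal.span {NodeAlg.t Δ}) bot_le
  have hqprime : q.IsPrime := hq.1.1
  have htq : NodeAlg.t Δ ∉ q := fun h => by
    refine Set.disjoint_left.1 (Ideal.disjoint_nonZeroDivisors_of_mem_minimalPrimes hq) h ?_
    exact mem_nonZeroDivisors_iff_right.2 fun a ha => t_mul_eq_zero hΔ.ne_zero (by rwa [mul_comm] at ha)
  have hqq : q ≤ Ideal.span {NodeAlg.t Δ} • q := fun x hx => by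
    obtain ⟨y, rfl⟩ := Ideal.mem_span_singleton.1 (hqP hx)
    exact Submodule.smul_mem_smul (Ideal.mem_span_singleton_self _)
      ((hqprime.mem_or_mem hx).resolve_left htq)
  have hq0 : q = ⊥ := Submodule.eq_bot_of_le_smul_of_le_jacobson_bot _ _
    (Ideal.fg_of_isNoetherianRing q) hqq
    (((Ideal.span_singleton_le_iff_mem _).2 htu).trans (maximalIdeal_le_jacobson _))
  have : (⊥ : Ideal (NodeAlg R Δ)).IsPrime := hq0 ▸ hqprime
  exact IsDomain.of_bot_isPrime _

theorem ufd_node {Δ : R} (hΔ : Prime Δ) [IsDomain (NodeAlg R Δ)] :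
    UniqueFactorizationMonoid (NodeAlg R Δ) := by
  have hm : Δ ∈ maximalIdeal R := hΔ.not_isUnit
  have := nontrivial_quot hm
  have : (Ideal.span {Δ}).IsPrime := (Ideal.span_singleton_prime hΔ.ne_zero).2 hΔ
  have hp : Prime (NodeAlg.t Δ) :=
    prime_of_axis (π := Δ) (i := (0 : Fin 2)) (j := 1) (by decide) (xv_ne_zero 0)
  let A := NodeAlg R Δ
  let B := Localization.Away (NodeAlg.t Δ)
  rw [UniqueFactorizationMonoid.iff_localizationAway_of_prime hp]
  let W := Submonoid.powers (NodeAlg.t Δ)
  have : IsNoetherianRing B := IsLocalization.isNoetherianRing W B inferInstance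
  have : IsDomain B := IsLocalization.Away.isDomain B hp.ne_zero
  refine UniqueFactorizationMonoid.of_forall_isPrincipal_of_height_eq_one fun P hP hP1 => ?_
  let p := P.comap (algebraMap A B)
  have hp' : p.map (algebraMap A B) = P := IsLocalization.map_under W B P
  have hloc : ∀ (I : Ideal B) (_ : I.IsMaximal), Module.Projective (Localization.AtPrime I)
      (LocalizedModule I.primeCompl P) := by
    intro I hI
    set C := Localization.AtPrime I
    have : IsRegularLocalRing C := isRegularLocalRing_atPrime Δ B I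
    have : IsDomain C := Quotient.isDomain C
    have : UniqueFactorizationMonoid C := UFD.uniqueFactorizationMonoid C
    obtain ⟨c, hc⟩ := (UFD.isPrincipal_map_of_isLocalization (B := C) I.primeCompl P hP1).principal
    have : Module.Projective C (P.localized' C I.primeCompl (Algebra.linearMap B C)) := by
      rw [Ideal.localized'_eq_map, hc]
      rcases eq_or_ne c 0 with rfl | hc0
      · have : Subsingleton (Submodule.span C ({0} : Set C)) := by
          rw [Submodule.span_zero_singleton]; infer_instance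
        infer_instance
      · exact Module.Projective.of_equiv (LinearEquiv.toSpanNonzeroSingleton C C c hc0)
    exact Module.Projective.of_equiv
      (((IsLocalizedModule.linearEquiv I.primeCompl
        (P.toLocalized' C I.primeCompl (Algebra.linearMap B C))
        (LocalizedModule.mkLinearMap I.primeCompl P)).extendScalarsOfIsLocalization I.primeCompl C))
  have : Module.FinitePresentation B P := Module.finitePresentation_of_finite B P
  have : Module.Projective B P := Module.projective_of_localization_maximal hloc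
  have hP' : p.localized' B W (Algebra.linearMap A B) = P := by
    rw [Ideal.localized'_eq_map, hp']
  have hproj : Module.Projective B (p.localized' B W (Algebra.linearMap A B)) := by
    rw [hP']; infer_instance
  obtain ⟨a, b, ⟨e⟩⟩ := (pd_localized_all Δ B (p.toLocalized' B W (Algebra.linearMap A B))).2 hproj
  exact UFD.isPrincipal_of_stably_free P a b
    (((LinearEquiv.ofEq _ _ hP'.symm).prodCongr (LinearEquiv.refl B _)).trans e)

omit [IsAdicComplete (maximalIdeal R) R] in
/-- Factoriality forces the thickness to be prime. -/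
theorem prime_of_ufd {Δ : R} (hm : Δ ∈ maximalIdeal R) [IsDomain (NodeAlg R Δ)]
    [UniqueFactorizationMonoid (NodeAlg R Δ)] : Prime Δ := by
  have := nontrivial_quot hm
  have h01 : (0 : Fin 2) ≠ 1 := by decide
  have hΔ : Δ ≠ 0 := by
    rintro rfl
    have h := xv_mul_xv (π := (0 : R)) h01
    replace h := h.trans (map_zero _)
    rw [mul_eq_zero] at h
    exact h.elim (xv_ne_zero 0) (xv_ne_zero 1)
  let χ : NodeAlg R Δ →+* PowerSeries (R ⧸ maximalIdeal R) :=
    (PowerSeries.map (Ideal.Quotient.factor ((Ideal.span_singleton_le_iff_mem _).2 hm))).comp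
      (branch Δ 1 0 h01.symm)
  have hχ : χ (xv Δ 0) = PowerSeries.X := by
    simp only [χ, RingHom.comp_apply]
    rw [branch_xv_self]; exact PowerSeries.map_X _
  have hnu : ¬ IsUnit (xv Δ 0) := (node_local hm).2
  have hirr : Irreducible (xv Δ 0) := by
    refine ⟨hnu, fun x y hxy => ?_⟩
    have hlocal := (node_local hm).1
    by_contra hc
    push Not at hc
    have hc0 : ∀ z : NodeAlg R Δ, ¬ IsUnit z → PowerSeries.constantCoeff (χ z) = 0 := by
      intro z hz
      obtain ⟨f, rfl⟩ := Ideal.Quotient.mk_surjective z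
      have hf : constantCoeff f ∈ maximalIdeal R := fun hu =>
        hz ((MvPowerSeries.isUnit_iff_constantCoeff.2 hu).map _)
      simp only [χ, RingHom.comp_apply]
      rw [← PowerSeries.coeff_zero_eq_constantCoeff_apply, PowerSeries.coeff_map, branch_mk, coeff_axis,
        Finsupp.single_zero, coeff_zero_eq_constantCoeff_apply]
      exact Ideal.Quotient.eq_zero_iff_mem.2 hf
    have h1 := congrArg (PowerSeries.coeff 1) (congrArg χ hxy)
    rw [hχ, map_mul, PowerSeries.coeff_one_X, PowerSeries.coeff_mul,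
      Finset.Nat.sum_antidiagonal_eq_sum_range_succ_mk] at h1
    simp [Finset.sum_range_succ, hc0 x hc.1, hc0 y hc.2] at h1
  have hp : Prime (xv Δ 0) := irreducible_iff_prime.1 hirr
  have hker : (RingHom.ker (branch Δ 0 1 h01)).IsPrime := by
    rw [ker_branch h01]; exact (Ideal.span_singleton_prime hp.ne_zero).2 hp
  have hdom : IsDomain (PowerSeries (R ⧸ Ideal.span {Δ})) :=
    MulEquiv.isDomain (NodeAlg R Δ ⧸ RingHom.ker (branch Δ 0 1 h01))
      (RingHom.quotientKerEquivOfSurjective (branch_surjective h01)).symm.toMulEquiv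
  have : IsDomain (R ⧸ Ideal.span {Δ}) :=
    Function.Injective.isDomain (PowerSeries.C (R := R ⧸ Ideal.span {Δ})) PowerSeries.C_injective
  exact (Ideal.span_singleton_prime hΔ).1 ((Ideal.Quotient.isDomain_iff_prime _).1 this)

end Groth.Agent.H46.NodeUFD
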