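import Groth.Agent.H46.NodeUFD.Normal
import Mathlib.LinearAlgebra.Matrix.ToLin
import Mathlib.LinearAlgebra.Dimension.Free
import Mathlib.LinearAlgebra.Projection

/-!
The initial step and the limit: a matrix factorisation of `uv - Δ` without unit entries is equivalent
to one in normal form.
-/

set_option autoImplicit false
set_option linter.unusedSectionVars false

universe u

open IsLocalRing MvPowerSeries Matrix

namespace Groth.Agent.H46.NodeUFD

variable {R : Type u} [CommRing R] [IsLocalRing R]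

local notation "S" => MvPowerSeries (Fin 2) R

/-- An idempotent matrix over a field is diagonalisable. -/
lemma exists_diag {k : Type u} [Field k] {n : ℕ} (ε : Matrix (Fin n) (Fin n) k) (hε : ε * ε = ε) :
    ∃ (p q : ℕ) (σ : Fin n ≃ Fin p ⊕ Fin q) (U V : Matrix (Fin p ⊕ Fin q) (Fin p ⊕ Fin q) k),
      U * V = 1 ∧ U * ε.submatrix σ.symm σ.symm * V = Matrix.fromBlocks 1 0 0 0 := by
  classical
  set L := Matrix.toLin' ε with hL
  have hLL : ∀ x, L (L x) = L x := fun x => by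
    simp [hL, Matrix.toLin'_apply, Matrix.mulVec_mulVec, hε]
  have hc : IsCompl (LinearMap.range L) (LinearMap.ker L) :=
    (LinearMap.IsProj.mk (fun x => LinearMap.mem_range_self L x)
      (by rintro _ ⟨x, rfl⟩; exact hLL x) : LinearMap.IsProj (LinearMap.range L) L).isCompl
  let bs := ((Module.finBasis k (LinearMap.range L)).prod (Module.finBasis k (LinearMap.ker L))).map
    (Submodule.prodEquivOfIsCompl _ _ hc)
  let std := Pi.basisFun k (Fin n)
  let σ := std.indexEquiv bs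
  let U0 := LinearMap.toMatrix std bs (LinearMap.id (R := k) (M := Fin n → k))
  let V0 := LinearMap.toMatrix bs std (LinearMap.id (R := k) (M := Fin n → k))
  refine ⟨_, _, σ, U0.submatrix id σ.symm, V0.submatrix σ.symm id, ?_, ?_⟩
  · rw [Matrix.submatrix_mul_equiv, ← LinearMap.toMatrix_comp bs std bs, LinearMap.id_comp,
      LinearMap.toMatrix_id, Matrix.submatrix_id_id]
  · rw [Matrix.submatrix_mul_equiv, Matrix.submatrix_mul_equiv]
    have h : U0 * ε * V0 = LinearMap.toMatrix bs bs L := by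
      have hε' : ε = LinearMap.toMatrix std std L := by
        rw [show LinearMap.toMatrix std std = LinearMap.toMatrix' from
          LinearMap.toMatrix_eq_toMatrix', hL, LinearMap.toMatrix'_toLin']
      rw [hε', ← LinearMap.toMatrix_comp std std bs, ← LinearMap.toMatrix_comp bs std bs]
      simp
    rw [h, Matrix.submatrix_id_id]
    refine Matrix.ext fun a b => ?_
    rw [LinearMap.toMatrix_apply]
    rcases b with b | b
    · have hb : L (bs (.inl b)) = bs (.inl b) := by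
        obtain ⟨x, hx⟩ := (Module.finBasis k (LinearMap.range L) b).2
        simp [bs, ← hx, hLL]
      rw [hb, Module.Basis.repr_self]
      rcases a with a | a <;> simp [Matrix.one_apply, Finsupp.single_apply, eq_comm]
    · have hb : L (bs (.inr b)) = 0 := by
        simpa [bs] using (Module.finBasis k (LinearMap.ker L) b).2
      rw [hb, map_zero]
      rcases a with a | a <;> simp

variable {p q : Type*} [Fintype p] [Fintype q] [DecidableEq p] [DecidableEq q]
variable {n : Type*} [Fintype n] [DecidableEq n]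

/-- The linear part. -/
noncomputable def lin (i : Fin 2) (M : Matrix n n S) : Matrix n n R :=
  M.map (coeff (Finsupp.single i 1))

lemma sub_linear_mem {M : Matrix n n S} (h : In 1 M) :
    In 2 (M - ((X 0 : S) • Cm (lin 0 M) + (X 1 : S) • Cm (lin 1 M))) := by
  intro a b
  have hf := decomp₂ (show (0 : Fin 2) ≠ 1 by decide) (M a b)
  have h0 : dX 0 (M a b) - C (coeff (Finsupp.single 0 1) (M a b)) ∈ F 1 :=
    mem_F_one_iff.2 (by
      rw [map_sub, constantCoeff_C, ← coeff_zero_eq_constantCoeff_apply, coeff_dX, zero_add, sub_self]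
      exact Submodule.zero_mem _)
  have h1 : dX 1 (rX 0 (M a b)) - C (coeff (Finsupp.single 1 1) (M a b)) ∈ F 1 :=
    mem_F_one_iff.2 (by
      rw [map_sub, constantCoeff_C, ← coeff_zero_eq_constantCoeff_apply, coeff_dX, zero_add,
        coeff_rX, if_pos (by simp), sub_self]
      exact Submodule.zero_mem _)
  have h2 : (C (constantCoeff (M a b)) : S) ∈ F 2 :=
    C_mem_F (i := 1) le_rfl (by simpa using mem_F_one_iff.1 (h a b))
  have h3 := add_mem (add_mem ((X_mul_mem_iff (k := (0 : Fin 2)) (j := 1)).2 h0)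
    ((X_mul_mem_iff (k := (1 : Fin 2)) (j := 1)).2 h1)) h2
  convert h3 using 1
  simp [lin, Cm]
  linear_combination hf

lemma quad_zero {x y z w : R}
    (h : X 0 * X 0 * C x + X 0 * X 1 * C y + X 1 * X 1 * C z + C w ∈ (F 3 : Ideal S)) :
    x ∈ maximalIdeal R ∧ y ∈ maximalIdeal R ∧ z ∈ maximalIdeal R := by
  classical
  have hC : ∀ r : R, rX 0 (C r : S) = C r := fun r => MvPowerSeries.ext fun d => by
    rw [coeff_rX, coeff_C]; split_ifs with h1 h2 <;> simp_all
  have hX : ∀ r : R, rX 0 (X 1 * C r : S) = X 1 * C r := fun r => MvPowerSeries.ext fun d => by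
    rw [coeff_rX]
    split_ifs with hd
    · rfl
    · rw [X, coeff_monomial_mul, coeff_C]
      split_ifs with h1 h2 <;> try simp
      exfalso
      refine hd ?_
      have h3 := DFunLike.congr_fun h2 0
      simpa using h3
  obtain ⟨hz, hw⟩ := lin_solve (k := 0) (l := 1) (j := 2) (by decide)
    (x := X 0 * C x + X 1 * C y) (y := X 1 * C z) (r := w) (by convert h using 1; ring)
  rw [hX, X_mul_mem_iff] at hz
  have hz' : z ∈ maximalIdeal R := by simpa using mem_F_one_iff.1 hz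
  have hxy : X 0 * (X 0 * C x + X 1 * C y) ∈ (F (2 + 1) : Ideal S) := by
    have h4 : X 1 * X 1 * C z ∈ (F 3 : Ideal S) := by
      rw [mul_assoc]
      exact X_mul_mem_iff.2 (X_mul_mem_iff.2 hz)
    convert sub_mem (sub_mem h h4) hw using 1
    ring
  rw [X_mul_mem_iff] at hxy
  obtain ⟨hy, -⟩ := lin_solve (k := 0) (l := 1) (j := 1) (by decide) (x := C x) (y := C y) (r := 0)
    (by simpa using hxy)
  rw [hC] at hy
  have hx : X 0 * C x ∈ (F (1 + 1) : Ideal S) := by
    simpa using sub_mem hxy ((X_mul_mem_iff (k := (1 : Fin 2)) (j := 1)).2 hy)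
  rw [X_mul_mem_iff] at hx
  exact ⟨by simpa using mem_F_one_iff.1 hx, by simpa using mem_F_one_iff.1 hy, hz'⟩

/-- The quadratic part of a matrix factorisation. -/
lemma quad_eq (Δ : R) {Φ Ψ : Matrix n n S} (hΦ : In 1 Φ) (hΨ : In 1 Ψ) (h : Φ * Ψ = node Δ • 1) :
    (lin 0 Φ).map (residue R) * (lin 0 Ψ).map (residue R) = 0 ∧
    (lin 1 Φ).map (residue R) * (lin 1 Ψ).map (residue R) = 0 ∧
    (lin 0 Φ).map (residue R) * (lin 1 Ψ).map (residue R) +
      (lin 1 Φ).map (residue R) * (lin 0 Ψ).map (residue R) = 1 := by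
  have hX : ∀ (k : Fin 2) (M : Matrix n n R), In 1 ((X k : S) • Cm M) := fun k M =>
    (In.of_zero _).X_smul k
  set L := (X 0 : S) • Cm (lin 0 Φ) + (X 1 : S) • Cm (lin 1 Φ) with hL
  set L' := (X 0 : S) • Cm (lin 0 Ψ) + (X 1 : S) • Cm (lin 1 Ψ) with hL'
  have hL1 : In 1 L := (hX 0 _).add (hX 1 _)
  have h3 : In 3 (L * L' - node Δ • 1) := by
    have e : L * L' - node Δ • 1 = -((Φ - L) * Ψ) - L * (Ψ - L') := by
      rw [← h]; noncomm_ring
    rw [e]
    exact ((sub_linear_mem hΦ).mul hΨ).neg.sub (hL1.mul (sub_linear_mem hΨ))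
  have key : ∀ i j,
      (lin 0 Φ * lin 0 Ψ) i j ∈ maximalIdeal R ∧
      (lin 0 Φ * lin 1 Ψ + lin 1 Φ * lin 0 Ψ - 1) i j ∈ maximalIdeal R ∧
      (lin 1 Φ * lin 1 Ψ) i j ∈ maximalIdeal R := fun i j => by
    refine quad_zero (w := (Δ • (1 : Matrix n n R)) i j) ?_
    convert h3 i j using 1
    rw [hL, hL', node]
    simp only [add_mul, mul_add, Matrix.smul_mul, Matrix.mul_smul, smul_smul, Cm_mul]
    by_cases hij : i = j <;> simp [Cm, hij, ← Matrix.map_mul] <;> ring
  refine ⟨?_, ?_, ?_⟩ <;> ext i j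
  · have := residue_eq_zero_iff _ |>.2 (key i j).1
    rwa [← Matrix.map_apply (f := residue R), Matrix.map_mul] at this
  · have := residue_eq_zero_iff _ |>.2 (key i j).2.2
    rwa [← Matrix.map_apply (f := residue R), Matrix.map_mul] at this
  · have := residue_eq_zero_iff _ |>.2 (key i j).2.1
    rw [Matrix.sub_apply, map_sub, sub_eq_zero, ← Matrix.map_apply (f := residue R),
      ← Matrix.map_apply (f := residue R), Matrix.map_add _ (map_add _), Matrix.map_mul, Matrix.map_mul,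
      Matrix.map_one _ (map_zero _) (map_one _)] at this
    exact this

lemma exists_lift (M : Matrix n n (ResidueField R)) : ∃ N : Matrix n n R, N.map (residue R) = M := by
  refine ⟨fun a b => (residue_surjective (M a b)).choose, Matrix.ext fun a b => ?_⟩
  exact (residue_surjective (M a b)).choose_spec

lemma isUnit_Cm {N : Matrix n n R} {M : Matrix n n (ResidueField R)} (h : N.map (residue R) = M)
    (hM : IsUnit M) : IsUnit (Cm N) := by
  rw [Matrix.isUnit_iff_isUnit_det] at hM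
  have hN : IsUnit (residue R N.det) := by
    rw [RingHom.map_det, RingHom.mapMatrix_apply, h]; exact hM
  have := (isUnit_of_map_unit _ _ hN).map (C : R →+* S)
  rw [RingHom.map_det, RingHom.mapMatrix_apply] at this
  exact (Matrix.isUnit_iff_isUnit_det _).2 this

/-- The initial step. -/
theorem init (Δ : R) {m : ℕ} (Φ Ψ : Matrix (Fin m) (Fin m) S) (hΦ : In 1 Φ) (hΨ : In 1 Ψ)
    (h : Φ * Ψ = node Δ • 1) (h' : Ψ * Φ = node Δ • 1) :
    ∃ (p q : ℕ) (σ : Fin m ≃ Fin p ⊕ Fin q) (P Q : Matrix (Fin p ⊕ Fin q) (Fin p ⊕ Fin q) S),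
      IsUnit P ∧ IsUnit Q ∧ In 2 (P * Φ.submatrix σ.symm σ.symm * Q - Nm 0 0) := by
  obtain ⟨haa, hbb, hab⟩ := quad_eq Δ hΦ hΨ h
  obtain ⟨haa', hbb', hab'⟩ := quad_eq Δ hΨ hΦ h'
  set a := (lin 0 Φ).map (residue R)
  set b := (lin 1 Φ).map (residue R)
  set a' := (lin 0 Ψ).map (residue R)
  set b' := (lin 1 Ψ).map (residue R)
  have hG : (a' + b') * (a + b) = 1 := by
    rw [← hab', add_mul, mul_add, mul_add, haa', hbb']; abel
  set G' := a' + b' with hG'
  have hid : G' * a * (G' * a) = G' * a := by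
    have h1 : a * G' * a = a := by
      have e : b' * a = 1 - a' * b := eq_sub_of_add_eq' hab'
      rw [hG', mul_add, haa, zero_add, mul_assoc, e, mul_sub, mul_one, ← mul_assoc, haa, zero_mul,
        sub_zero]
    rw [mul_assoc, ← mul_assoc a, h1]
  have hb : G' * b = 1 - G' * a := by rw [eq_sub_iff_add_eq', ← mul_add, hG]
  obtain ⟨p, q, σ, U, V, hUV, hD⟩ := exists_diag (G' * a) hid
  let T := G'.submatrix σ.symm σ.symm
  obtain ⟨P, hP⟩ := exists_lift (U * T)
  obtain ⟨Q, hQ⟩ := exists_lift V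
  have hT : IsUnit T := by
    refine .of_mul_eq_one ((a + b).submatrix σ.symm σ.symm) ?_
    rw [Matrix.submatrix_mul_equiv, hG, Matrix.submatrix_one_equiv]
  refine ⟨p, q, σ, Cm P, Cm Q, isUnit_Cm hP ((IsUnit.of_mul_eq_one _ hUV).mul hT),
    isUnit_Cm hQ (IsUnit.of_mul_eq_one _ (mul_eq_one_comm.1 hUV)), ?_⟩
  set A := (lin 0 Φ).submatrix σ.symm σ.symm
  set B := (lin 1 Φ).submatrix σ.symm σ.symm
  have hA : (P * A * Q).map (residue R) = Matrix.fromBlocks 1 0 0 0 := by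
    rw [Matrix.map_mul, Matrix.map_mul, hP, hQ, ← hD]
    simp only [T, A, a, ← Matrix.submatrix_map, mul_assoc]
    rw [← mul_assoc (G'.submatrix _ _), Matrix.submatrix_mul_equiv]
  have hB : (P * B * Q).map (residue R) = Matrix.fromBlocks 0 0 0 1 := by
    rw [Matrix.map_mul, Matrix.map_mul, hP, hQ]
    have e : U * T * B.map (residue R) * V = U * (1 - (G' * a).submatrix σ.symm σ.symm) * V := by
      simp only [T, B, b, ← Matrix.submatrix_map, mul_assoc]
      rw [← mul_assoc (G'.submatrix _ _), Matrix.submatrix_mul_equiv, hb]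
      rw [Matrix.submatrix_sub, Pi.sub_apply, Pi.sub_apply, Matrix.submatrix_one_equiv]
    rw [e, mul_sub, sub_mul, mul_one, hUV, hD, ← fromBlocks_one]
    refine Matrix.ext fun x y => ?_
    rcases x with x | x <;> rcases y with y | y <;> simp [Matrix.one_apply]
  have key : ∀ (M N : Matrix (Fin p ⊕ Fin q) (Fin p ⊕ Fin q) R),
      M.map (residue R) = N.map (residue R) → In 1 (Cm M - Cm N) := fun M N hMN x y =>
    mem_F_one_iff.2 (by
      have := congrFun (congrFun hMN x) y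
      rw [Matrix.sub_apply, map_sub, ← residue_eq_zero_iff, map_sub, sub_eq_zero]
      simpa [Cm] using this)
  have hΦ2 : In 2 (Φ.submatrix σ.symm σ.symm - ((X 0 : S) • Cm A + (X 1 : S) • Cm B)) := fun x y => by
    simpa [A, B, Cm] using sub_linear_mem hΦ (σ.symm x) (σ.symm y)
  have hN : Nm (0 : Matrix (Fin p) (Fin q) R) 0 =
      (X 0 : S) • Cm (Matrix.fromBlocks 1 0 0 0) + (X 1 : S) • Cm (Matrix.fromBlocks 0 0 0 1) := by
    refine Matrix.ext fun x y => ?_
    rcases x with x | x <;> rcases y with y | y <;> simp [Nm, Cm, Matrix.one_apply]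
  have e : Cm P * Φ.submatrix σ.symm σ.symm * Cm Q - Nm 0 0 =
      Cm P * (Φ.submatrix σ.symm σ.symm - ((X 0 : S) • Cm A + (X 1 : S) • Cm B)) * Cm Q +
      ((X 0 : S) • (Cm (P * A * Q) - Cm (Matrix.fromBlocks 1 0 0 0)) +
        (X 1 : S) • (Cm (P * B * Q) - Cm (Matrix.fromBlocks 0 0 0 1))) := by
    rw [hN]
    simp only [← Cm_mul, mul_sub, sub_mul, mul_add, add_mul, smul_sub, Matrix.mul_smul, Matrix.smul_mul]
    abel
  rw [e]
  refine ((hΦ2.mul_left _).mul_right _).add ((key _ _ ?_).X_smul 0 |>.add ((key _ _ ?_).X_smul 1))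
  · rw [hA, Matrix.fromBlocks_map]; simp
  · rw [hB, Matrix.fromBlocks_map]; simp

lemma isUnit_of_sub {P P₀ : Matrix n n S} (h₀ : IsUnit P₀) (h : In 1 (P - P₀)) : IsUnit P := by
  obtain ⟨w, rfl⟩ := h₀
  have h' : In 1 (P * (↑w⁻¹ : Matrix n n S) - 1) := by
    have := h.mul_right (↑w⁻¹ : Matrix n n S)
    rwa [sub_mul, Units.mul_inv] at this
  have := (isUnit_of_one_sub h').mul w.isUnit
  rwa [mul_assoc, Units.inv_mul, mul_one] at this

lemma conj_mf {A : Type*} [CommRing A] {Φ Ψ : Matrix n n A} {c : A} (wP wQ : (Matrix n n A)ˣ)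
    (h : Φ * Ψ = c • 1) :
    ((wP : Matrix n n A) * Φ * (wQ : Matrix n n A)) *
      (((wQ⁻¹ : (Matrix n n A)ˣ) : Matrix n n A) * Ψ * ((wP⁻¹ : (Matrix n n A)ˣ) : Matrix n n A)) = c • 1 := by
  simp only [mul_assoc, Units.mul_inv_cancel_left]
  rw [← mul_assoc Φ, h, Matrix.smul_mul, one_mul, Matrix.mul_smul, Units.mul_inv]

/-- The limit of the successive approximation. -/
theorem exists_normal [IsNoetherianRing R] [IsAdicComplete (maximalIdeal R) R] (Δ : R)
    (Φ Ψ : Matrix (p ⊕ q) (p ⊕ q) S) (h : Φ * Ψ = node Δ • 1)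
    (P₀ Q₀ : Matrix (p ⊕ q) (p ⊕ q) S) (hP₀ : IsUnit P₀) (hQ₀ : IsUnit Q₀)
    (h₀ : In 2 (P₀ * Φ * Q₀ - Nm 0 0)) :
    ∃ (P Q : Matrix (p ⊕ q) (p ⊕ q) S) (β : Matrix p q R) (γ : Matrix q p R),
      IsUnit P ∧ IsUnit Q ∧ P * Φ * Q = Nm β γ ∧ β * γ = Δ • 1 ∧ γ * β = Δ • 1 := by
  classical
  let T := Matrix (p ⊕ q) (p ⊕ q) S × Matrix (p ⊕ q) (p ⊕ q) S × Matrix p q R × Matrix q p R
  let Good : ℕ → T → Prop := fun i x => IsUnit x.1 ∧ IsUnit x.2.1 ∧ In 2 (Cm x.2.2.1) ∧
    In 2 (Cm x.2.2.2) ∧ In (i + 2) (x.1 * Φ * x.2.1 - Nm x.2.2.1 x.2.2.2)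
  have step : ∀ (i : ℕ) (x : T), Good i x → ∃ y : T, Good (i + 1) y ∧ In i (y.1 - x.1) ∧
      In i (y.2.1 - x.2.1) ∧ In i (Cm y.2.2.1 - Cm x.2.2.1) ∧ In i (Cm y.2.2.2 - Cm x.2.2.2) := by
    rintro i ⟨P, Q, β, γ⟩ ⟨⟨wP, hwP⟩, ⟨wQ, hwQ⟩, hβ, hγ, hE⟩
    simp only at hwP hwQ hβ hγ hE
    subst hwP hwQ
    have hmf := conj_mf wP wQ h
    obtain ⟨P1, Q1, β', γ', hP1, hQ1, hb, hc, hnew⟩ := improve Δ (show 2 ≤ i + 2 by omega) β γ hβ hγ
      _ _ hE hmf
    refine ⟨⟨P1 * ↑wP, (↑wQ : Matrix (p ⊕ q) (p ⊕ q) S) * Q1, β', γ'⟩,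
      ⟨(isUnit_of_one_sub (hP1.mono (by omega))).mul wP.isUnit,
        wQ.isUnit.mul (isUnit_of_one_sub (hQ1.mono (by omega))), ?_, ?_, ?_⟩, ?_, ?_, ?_, ?_⟩
    · have := (hb.mono (show 2 ≤ i + 2 by omega)).add hβ
      rwa [← Cm_add, sub_add_cancel] at this
    · have := (hc.mono (show 2 ≤ i + 2 by omega)).add hγ
      rwa [← Cm_add, sub_add_cancel] at this
    · simpa only [mul_assoc] using hnew
    · show In i (P1 * (↑wP : Matrix (p ⊕ q) (p ⊕ q) S) - (↑wP : Matrix (p ⊕ q) (p ⊕ q) S))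
      rw [show P1 * (↑wP : Matrix (p ⊕ q) (p ⊕ q) S) - ↑wP = (P1 - 1) * (↑wP : Matrix (p ⊕ q) (p ⊕ q) S) by rw [sub_mul, one_mul]]
      exact (hP1.mono (by omega)).mul_right _
    · show In i ((↑wQ : Matrix (p ⊕ q) (p ⊕ q) S) * Q1 - (↑wQ : Matrix (p ⊕ q) (p ⊕ q) S))
      rw [show (↑wQ : Matrix (p ⊕ q) (p ⊕ q) S) * Q1 - ↑wQ = (↑wQ : Matrix (p ⊕ q) (p ⊕ q) S) * (Q1 - 1) by rw [mul_sub, mul_one]]
      exact (hQ1.mono (by omega)).mul_left _
    · rw [← Cm_sub]; exact hb.mono (by omega)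
    · rw [← Cm_sub]; exact hc.mono (by omega)
  choose next hnext using step
  have hG0 : Good 0 (P₀, Q₀, 0, 0) := ⟨hP₀, hQ₀, fun a b => by simp [Cm], fun a b => by simp [Cm], h₀⟩
  let seq : ∀ i, {x : T // Good i x} := fun i =>
    Nat.rec ⟨(P₀, Q₀, 0, 0), hG0⟩ (fun i x => ⟨next i x.1 x.2, (hnext i x.1 x.2).1⟩) i
  have hdiff : ∀ i, In i ((seq (i + 1)).1.1 - (seq i).1.1) ∧
      In i ((seq (i + 1)).1.2.1 - (seq i).1.2.1) ∧
      In i (Cm (seq (i + 1)).1.2.2.1 - Cm (seq i).1.2.2.1) ∧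
      In i (Cm (seq (i + 1)).1.2.2.2 - Cm (seq i).1.2.2.2) := fun i =>
    (hnext i (seq i).1 (seq i).2).2
  have limit : ∀ {s t : Type _} (f : ℕ → Matrix s t S), (∀ i, In i (f (i + 1) - f i)) →
      ∃ g : Matrix s t S, ∀ i, In i (g - f i) := fun {s t} f hf => by
    choose g hg using fun a b => exists_limit (fun i => f i a b) (fun i => hf i a b)
    exact ⟨g, fun i a b => hg a b i⟩
  obtain ⟨P, hP⟩ := limit (fun i => (seq i).1.1) (fun i => (hdiff i).1)
  obtain ⟨Q, hQ⟩ := limit (fun i => (seq i).1.2.1) (fun i => (hdiff i).2.1)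
  choose gb hgb using fun a b => exists_limit (fun i => Cm (seq i).1.2.2.1 a b)
    (fun i => (hdiff i).2.2.1 a b)
  choose gc hgc using fun a b => exists_limit (fun i => Cm (seq i).1.2.2.2 a b)
    (fun i => (hdiff i).2.2.2 a b)
  let β : Matrix p q R := fun a b => constantCoeff (gb a b)
  let γ : Matrix q p R := fun a b => constantCoeff (gc a b)
  have hβ : ∀ i, In i (Cm β - Cm (seq i).1.2.2.1) := fun i a b => by
    simpa [Cm, β] using C_constantCoeff_mem (hgb a b i)
  have hγ : ∀ i, In i (Cm γ - Cm (seq i).1.2.2.2) := fun i a b => by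
    simpa [Cm, γ] using C_constantCoeff_mem (hgc a b i)
  have heq : P * Φ * Q = Nm β γ := by
    rw [← sub_eq_zero]
    refine Matrix.ext fun a b => eq_zero_of_forall fun i => ?_
    have hN : In i (Nm β γ - Nm (seq i).1.2.2.1 (seq i).1.2.2.2) := by
      simp only [Nm, sub_eq_add_neg, fromBlocks_neg, fromBlocks_add, add_neg_cancel]
      simp only [← sub_eq_add_neg]
      exact (In.zero _).fromBlocks (hβ i) (hγ i) (In.zero _)
    have e : P * Φ * Q - Nm β γ = (P - (seq i).1.1) * Φ * Q + (seq i).1.1 * Φ * (Q - (seq i).1.2.1) +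
        ((seq i).1.1 * Φ * (seq i).1.2.1 - Nm (seq i).1.2.2.1 (seq i).1.2.2.2) -
        (Nm β γ - Nm (seq i).1.2.2.1 (seq i).1.2.2.2) := by noncomm_ring
    rw [e]
    exact ((((hP i).mul_right Φ).mul_right Q).add ((hQ i).mul_left _) |>.add
      ((seq i).2.2.2.2.2.mono (by omega))).sub hN a b
  have hPu := isUnit_of_sub (seq 1).2.1 (hP 1)
  have hQu := isUnit_of_sub (seq 1).2.2.1 (hQ 1)
  refine ⟨P, Q, β, γ, hPu, hQu, heq, ?_⟩
  obtain ⟨wP, rfl⟩ := hPu
  obtain ⟨wQ, rfl⟩ := hQu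
  have hmf := conj_mf wP wQ h
  rw [heq] at hmf
  have hβ2 : In 2 (Cm β) := by
    have := (hβ 2).add (seq 2).2.2.2.1
    rwa [sub_add_cancel] at this
  have hγ2 : In 2 (Cm γ) := by
    have := (hγ 2).add (seq 2).2.2.2.2.1
    rwa [sub_add_cancel] at this
  have key : ∀ j, In (j + 1) (Cm (β * γ - Δ • (1 : Matrix p p R))) ∧
      In (j + 1) (Cm (γ * β - Δ • (1 : Matrix q q R))) := fun j => by
    have hz : In (j + 2) (Nm β γ - Nm β γ) := by rw [sub_self]; exact In.zero _
    have := psi_of_phi Δ (show 2 ≤ j + 2 by omega) β γ hβ2 hγ2 _ _ hz hmf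
    exact ⟨this.2.1.mono (by omega), this.2.2.mono (by omega)⟩
  constructor <;> rw [← sub_eq_zero] <;> refine Matrix.ext fun a b => MvPowerSeries.C_injective
    (σ := Fin 2) ?_ <;> rw [Matrix.zero_apply, map_zero]
  · exact eq_zero_of_forall fun j => F_mono (Nat.le_succ j) ((key j).1 a b)
  · exact eq_zero_of_forall fun j => F_mono (Nat.le_succ j) ((key j).2 a b)

end Groth.Agent.H46.NodeUFD
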