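import Groth.Agent.H46.NodeUFD.Filt
import Mathlib.Data.Matrix.Block
import Mathlib.Tactic.NoncommRing
import Mathlib.Tactic.LinearCombination

/-!
Normal form of matrix factorisations of `uv - Δ` over `R[[u, v]]`.
-/

set_option autoImplicit false
set_option linter.unusedSectionVars false

universe u

open IsLocalRing MvPowerSeries Matrix

namespace Groth.Agent.H46.NodeUFD

variable {R : Type u} [CommRing R] [IsLocalRing R]
variable {p q : Type*} [Fintype p] [Fintype q] [DecidableEq p] [DecidableEq q]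

local notation "S" => MvPowerSeries (Fin 2) R

/-- A constant matrix of series. -/
noncomputable def Cm {s t : Type*} (M : Matrix s t R) : Matrix s t S := M.map C

/-- The equation of the node. -/
noncomputable def node (Δ : R) : S := X 0 * X 1 - C Δ

/-- The normal form. -/
noncomputable def Nm (β : Matrix p q R) (γ : Matrix q p R) : Matrix (p ⊕ q) (p ⊕ q) S :=
  fromBlocks ((X 0 : S) • 1) (Cm β) (Cm γ) ((X 1 : S) • 1)

/-- The partner of the normal form. -/
noncomputable def Nm' (β : Matrix p q R) (γ : Matrix q p R) : Matrix (p ⊕ q) (p ⊕ q) S :=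
  fromBlocks ((X 1 : S) • 1) (-Cm β) (-Cm γ) ((X 0 : S) • 1)

section Cm

lemma Cm_mul {s t r : Type*} [Fintype t] (M : Matrix s t R) (N : Matrix t r R) :
    Cm M * Cm N = Cm (M * N) := (Matrix.map_mul (f := (C : R →+* S))).symm

lemma Cm_sub {s t : Type*} (M N : Matrix s t R) : Cm (M - N) = Cm M - Cm N := by
  ext a b; simp [Cm]

lemma Cm_add {s t : Type*} (M N : Matrix s t R) : Cm (M + N) = Cm M + Cm N := by
  ext a b; simp [Cm]

lemma Cm_smul_one (r : R) : (C r : S) • (1 : Matrix p p S) = Cm (r • (1 : Matrix p p R)) := by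
  ext a b
  by_cases h : a = b <;> simp [Cm, Matrix.one_apply, h]

end Cm

lemma Nm_mul (Δ : R) (β : Matrix p q R) (γ : Matrix q p R) :
    node Δ • (1 : Matrix (p ⊕ q) (p ⊕ q) S) - Nm β γ * Nm' β γ =
      fromBlocks (Cm (β * γ - Δ • (1 : Matrix p p R))) 0 0 (Cm (γ * β - Δ • (1 : Matrix q q R))) := by
  have h1 : node Δ • (1 : Matrix (p ⊕ q) (p ⊕ q) S) =
      fromBlocks (node Δ • 1) 0 0 (node Δ • 1) := by
    rw [← fromBlocks_one, fromBlocks_smul, smul_zero, smul_zero]
  rw [h1, Nm, Nm', fromBlocks_multiply, Cm_sub, Cm_sub, ← Cm_mul, ← Cm_mul, ← Cm_smul_one,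
    ← Cm_smul_one, node]
  refine Matrix.ext fun a b => ?_
  rcases a with a | a <;> rcases b with b | b <;>
    simp [Matrix.mul_neg, Matrix.sub_apply, Matrix.one_apply] <;> split_ifs <;> ring

lemma In.fromBlocks {j : ℕ} {A : Matrix p p S} {B : Matrix p q S} {C' : Matrix q p S}
    {D : Matrix q q S} (hA : In j A) (hB : In j B) (hC : In j C') (hD : In j D) :
    In j (Matrix.fromBlocks A B C' D) := by
  rintro (a | a) (b | b)
  exacts [hA a b, hB a b, hC a b, hD a b]

lemma In_Nm {β : Matrix p q R} {γ : Matrix q p R} (hβ : In 1 (Cm β)) (hγ : In 1 (Cm γ)) :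
    In 1 (Nm β γ) ∧ In 1 (Nm' β γ) := by
  have hX : ∀ (k : Fin 2), In 1 ((X k : S) • (1 : Matrix p p S)) ∧
      In 1 ((X k : S) • (1 : Matrix q q S)) := fun k =>
    ⟨(In.of_zero _).X_smul k, (In.of_zero _).X_smul k⟩
  exact ⟨(hX 0).1.fromBlocks hβ hγ (hX 1).2, (hX 1).1.fromBlocks hβ.neg hγ.neg (hX 0).2⟩

/-- If `Φ` is in normal form up to weight `j`, then so is `Ψ`. -/
theorem psi_of_phi (Δ : R) {j : ℕ} (hj : 2 ≤ j) (β : Matrix p q R) (γ : Matrix q p R)
    (hβ : In 2 (Cm β)) (hγ : In 2 (Cm γ)) (Φ Ψ : Matrix (p ⊕ q) (p ⊕ q) S)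
    (hE : In j (Φ - Nm β γ)) (hΦΨ : Φ * Ψ = node Δ • 1) :
    In j (Ψ - Nm' β γ) ∧ In (j + 1) (Cm (β * γ - Δ • (1 : Matrix p p R))) ∧ In (j + 1) (Cm (γ * β - Δ • (1 : Matrix q q R))) := by
  set E' := Ψ - Nm' β γ with hE'
  set E := Φ - Nm β γ with hEd
  have hN := In_Nm (hβ.mono (by omega)) (hγ.mono (by omega))
  have key : Nm β γ * E' + E * Ψ =
      fromBlocks (Cm (β * γ - Δ • (1 : Matrix p p R))) 0 0 (Cm (γ * β - Δ • (1 : Matrix q q R))) := by
    rw [← Nm_mul, hE', hEd, mul_sub, sub_mul, hΦΨ]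
    abel
  have step : ∀ t, t + 1 ≤ j → In t E' → In (t + 1) E' ∧
      In (t + 2) (Cm (β * γ - Δ • (1 : Matrix p p R))) ∧ In (t + 2) (Cm (γ * β - Δ • (1 : Matrix q q R))) := by
    intro t htj ht
    have hΨ : In (min t 1) Ψ := by
      have h := (ht.mono (min_le_left t 1)).add (hN.2.mono (min_le_right t 1))
      rwa [hE', sub_add_cancel] at h
    have hEP : In (t + 2) (E * Ψ) := (hE.mul hΨ).mono (by omega)
    obtain ⟨X₁₁, X₁₂, X₂₁, X₂₂, hX⟩ : ∃ A B C' D, E' = fromBlocks A B C' D :=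
      ⟨_, _, _, _, (fromBlocks_toBlocks E').symm⟩
    have hx : In t X₁₁ ∧ In t X₁₂ ∧ In t X₂₁ ∧ In t X₂₂ := by
      rw [hX] at ht
      exact ⟨fun a b => ht (.inl a) (.inl b), fun a b => ht (.inl a) (.inr b),
        fun a b => ht (.inr a) (.inl b), fun a b => ht (.inr a) (.inr b)⟩
    have h := hEP
    rw [eq_sub_of_add_eq' key, hX, Nm, fromBlocks_multiply] at h
    have hb : In (t + 2) (Cm β * X₂₁) := (hβ.mul hx.2.2.1).mono (by omega)
    have hb' : In (t + 2) (Cm β * X₂₂) := (hβ.mul hx.2.2.2).mono (by omega)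
    have hg : In (t + 2) (Cm γ * X₁₁) := (hγ.mul hx.1).mono (by omega)
    have hg' : In (t + 2) (Cm γ * X₁₂) := (hγ.mul hx.2.1).mono (by omega)
    have e11 : ∀ a b, X 0 * X₁₁ a b + C ((-(β * γ - Δ • (1 : Matrix p p R))) a b) ∈ F (t + 1 + 1) := fun a b => by
      have h1 := h (.inl a) (.inl b)
      have h2 := hb a b
      have h3 := sub_mem (neg_mem h1) h2
      convert h3 using 1
      simp [Cm]; ring
    have e22 : ∀ a b, X 1 * X₂₂ a b + C ((-(γ * β - Δ • (1 : Matrix q q R))) a b) ∈ F (t + 1 + 1) := fun a b => by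
      have h1 := h (.inr a) (.inr b)
      have h2 := hg' a b
      have h3 := sub_mem (neg_mem h1) h2
      convert h3 using 1
      simp [Cm]; ring
    have e12 : ∀ a b, X 0 * X₁₂ a b ∈ F (t + 1 + 1) := fun a b => by
      have h3 := sub_mem (neg_mem (h (.inl a) (.inr b))) (hb' a b)
      convert h3 using 1
      simp
    have e21 : ∀ a b, X 1 * X₂₁ a b ∈ F (t + 1 + 1) := fun a b => by
      have h3 := sub_mem (neg_mem (h (.inr a) (.inl b))) (hg a b)
      convert h3 using 1
      simp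
    refine ⟨?_, fun a b => ?_, fun a b => ?_⟩
    · rw [hX]
      exact In.fromBlocks (fun a b => (lin_solve₁ (e11 a b)).1) (fun a b => X_mul_mem_iff.1 (e12 a b))
        (fun a b => X_mul_mem_iff.1 (e21 a b)) (fun a b => (lin_solve₁ (e22 a b)).1)
    · have := neg_mem (lin_solve₁ (e11 a b)).2
      simpa [Cm] using this
    · have := neg_mem (lin_solve₁ (e22 a b)).2
      simpa [Cm] using this
  have all : ∀ t, t ≤ j → In t E' := by
    intro t
    induction t with
    | zero => exact fun _ => In.of_zero _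
    | succ t ih => exact fun h => (step t h (ih (by omega))).1
  obtain ⟨-, h1, h2⟩ := step (j - 1) (by omega) (all _ (by omega))
  exact ⟨all j le_rfl, h1.mono (by omega), h2.mono (by omega)⟩

/-- One step of the successive approximation. -/
theorem improve (Δ : R) {j : ℕ} (hj : 2 ≤ j) (β : Matrix p q R) (γ : Matrix q p R)
    (hβ : In 2 (Cm β)) (hγ : In 2 (Cm γ)) (Φ Ψ : Matrix (p ⊕ q) (p ⊕ q) S)
    (hE : In j (Φ - Nm β γ)) (hΦΨ : Φ * Ψ = node Δ • 1) :
    ∃ (P Q : Matrix (p ⊕ q) (p ⊕ q) S) (β' : Matrix p q R) (γ' : Matrix q p R),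
      In (j - 1) (P - 1) ∧ In (j - 1) (Q - 1) ∧ In j (Cm (β' - β)) ∧ In j (Cm (γ' - γ)) ∧
      In (j + 1) (P * Φ * Q - Nm β' γ') := by
  obtain ⟨hE', hD1, hD2⟩ := psi_of_phi Δ hj β γ hβ hγ Φ Ψ hE hΦΨ
  obtain ⟨i, rfl⟩ : ∃ i, j = i + 1 := ⟨j - 1, by omega⟩
  obtain ⟨a, b, c, d, hX⟩ : ∃ A B C' D, Φ - Nm β γ = fromBlocks A B C' D :=
    ⟨_, _, _, _, (fromBlocks_toBlocks _).symm⟩
  obtain ⟨a', b', c', d', hY⟩ : ∃ A B C' D, Ψ - Nm' β γ = fromBlocks A B C' D :=
    ⟨_, _, _, _, (fromBlocks_toBlocks _).symm⟩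
  rw [hX] at hE
  rw [hY] at hE'
  have ha : In (i + 1) a := fun x y => hE (.inl x) (.inl y)
  have hb : In (i + 1) b := fun x y => hE (.inl x) (.inr y)
  have hc : In (i + 1) c := fun x y => hE (.inr x) (.inl y)
  have hd : In (i + 1) d := fun x y => hE (.inr x) (.inr y)
  have hb' : In (i + 1) b' := fun x y => hE' (.inl x) (.inr y)
  have hc' : In (i + 1) c' := fun x y => hE' (.inr x) (.inl y)
  -- the linearised equation
  have key : (Nm β γ * fromBlocks a' b' c' d' + fromBlocks a b c d * Nm' β γ) +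
      fromBlocks a b c d * fromBlocks a' b' c' d' =
      fromBlocks (Cm (β * γ - Δ • (1 : Matrix p p R))) 0 0 (Cm (γ * β - Δ • (1 : Matrix q q R))) := by
    rw [← Nm_mul, ← hX, ← hY, mul_sub, sub_mul, mul_sub, sub_mul, sub_mul, hΦΨ]
    abel
  have hEE : In (i + 3) (fromBlocks a b c d * fromBlocks a' b' c' d') := (hE.mul hE').mono (by omega)
  rw [eq_sub_of_add_eq' key, Nm, Nm', fromBlocks_multiply, fromBlocks_multiply, fromBlocks_add] at hEE
  have g1 : In (i + 3) (Cm β * c') := (hβ.mul hc').mono (by omega)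
  have g2 : In (i + 3) (b * Cm γ) := (hb.mul hγ).mono (by omega)
  have g3 : In (i + 3) (Cm γ * b') := (hγ.mul hb').mono (by omega)
  have g4 : In (i + 3) (c * Cm β) := (hc.mul hβ).mono (by omega)
  have ea : In (i + 2) (a.map (rX 0)) := fun x y => by
    refine (lin_solve (k := 0) (l := 1) (by decide) (x := a' x y) (y := a x y)
      (r := (-(β * γ - Δ • (1 : Matrix p p R))) x y) ?_).1
    have h3 := add_mem (sub_mem (neg_mem (hEE (.inl x) (.inl y))) (g1 x y)) (g2 x y)
    convert h3 using 1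
    simp [Cm]; ring
  have ed : In (i + 2) (d.map (rX 1)) := fun x y => by
    refine (lin_solve (k := 1) (l := 0) (by decide) (x := d' x y) (y := d x y)
      (r := (-(γ * β - Δ • (1 : Matrix q q R))) x y) ?_).1
    have h3 := add_mem (sub_mem (neg_mem (hEE (.inr x) (.inr y))) (g3 x y)) (g4 x y)
    convert h3 using 1
    simp [Cm]; ring
  -- the operations
  set x11 := -a.map (dX 0)
  set x12 := -b.map (fun f => dX 1 (rX 0 f))
  set y12 := -b.map (dX 0)
  set x22 := -d.map (dX 1)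
  set x21 := -c.map (fun f => dX 0 (rX 1 f))
  set y21 := -c.map (dX 1)
  have hx11 : In i x11 := In.neg fun x y => dX_mem (ha x y)
  have hx12 : In i x12 := In.neg fun x y => dX_mem (rX_mem (hb x y))
  have hy12 : In i y12 := In.neg fun x y => dX_mem (hb x y)
  have hx22 : In i x22 := In.neg fun x y => dX_mem (hd x y)
  have hx21 : In i x21 := In.neg fun x y => dX_mem (rX_mem (hc x y))
  have hy21 : In i y21 := In.neg fun x y => dX_mem (hc x y)
  set x := fromBlocks x11 x12 x21 x22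
  set y := fromBlocks (0 : Matrix p p S) y12 y21 (0 : Matrix q q S)
  have hx : In i x := hx11.fromBlocks hx12 hx21 hx22
  have hy : In i y := (In.zero _).fromBlocks hy12 hy21 (In.zero _)
  refine ⟨1 + x, 1 + y, β + b.map constantCoeff, γ + c.map constantCoeff, ?_, ?_, ?_, ?_, ?_⟩
  · simpa using hx
  · simpa using hy
  · intro u w
    simpa [Cm] using C_constantCoeff_mem (hb u w)
  · intro u w
    simpa [Cm] using C_constantCoeff_mem (hc u w)
  have hN := (In_Nm (hβ.mono (by omega)) (hγ.mono (by omega))).1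
  have hsplit : (1 + x) * Φ * (1 + y) - Nm (β + b.map constantCoeff) (γ + c.map constantCoeff) =
      (fromBlocks a b c d + x * Nm β γ + Nm β γ * y -
        (Nm (β + b.map constantCoeff) (γ + c.map constantCoeff) - Nm β γ)) +
      (x * fromBlocks a b c d + fromBlocks a b c d * y + x * Φ * y) := by
    rw [← hX]; noncomm_ring
  rw [hsplit]
  have hΦ1 : In 1 Φ := by
    have h := (hE.mono (show 1 ≤ i + 1 by omega)).add hN
    rwa [← hX, sub_add_cancel] at h
  refine In.add ?_ ((((hx.mul hE).mono (by omega)).add ((hE.mul hy).mono (by omega))).add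
    (((hx.mul hΦ1).mul hy).mono (by omega)))
  have k1 : In (i + 2) (x12 * Cm γ) := (hx12.mul hγ).mono (by omega)
  have k2 : In (i + 2) (Cm β * y21) := (hβ.mul hy21).mono (by omega)
  have k3 : In (i + 2) (x11 * Cm β) := (hx11.mul hβ).mono (by omega)
  have k4 : In (i + 2) (x22 * Cm γ) := (hx22.mul hγ).mono (by omega)
  have k5 : In (i + 2) (x21 * Cm β) := (hx21.mul hβ).mono (by omega)
  have k6 : In (i + 2) (Cm γ * y12) := (hγ.mul hy12).mono (by omega)
  simp only [x, y, Nm, fromBlocks_multiply, fromBlocks_add, sub_eq_add_neg, fromBlocks_neg, add_neg_cancel,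
    Matrix.mul_zero, neg_zero, add_zero, zero_add]
  refine In.fromBlocks ?_ ?_ ?_ ?_
  · intro u w
    have h3 := add_mem (add_mem (ea u w) (k1 u w)) (k2 u w)
    convert h3 using 1
    have hf := decomp 0 (a u w)
    simp [x11] at hf ⊢
    linear_combination hf
  · intro u w
    have h3 := k3 u w
    convert h3 using 1
    have hf := decomp₂ (show (0 : Fin 2) ≠ 1 by decide) (b u w)
    simp [x12, y12, Cm] at hf ⊢
    linear_combination hf
  · intro u w
    have h3 := k4 u w
    convert h3 using 1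
    have hf := decomp₂ (show (1 : Fin 2) ≠ 0 by decide) (c u w)
    simp [x21, y21, Cm] at hf ⊢
    linear_combination hf
  · intro u w
    have h3 := add_mem (add_mem (ed u w) (k5 u w)) (k6 u w)
    convert h3 using 1
    have hf := decomp 1 (d u w)
    simp [x22] at hf ⊢
    linear_combination hf

end Groth.Agent.H46.NodeUFD
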